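import Cfsg.Agent.Lib.AltDegree.Triangle

/-!
Invariant subspaces attached to `(0 1 2)`; relations between two lifts.
-/

set_option autoImplicit false
set_option linter.unusedSectionVars false

namespace CfsgLib.AltDegree

open Equiv

variable {K : Type*} [Field K] [IsAlgClosed K] {V : Type*} [AddCommGroup V] [Module K V] [Nontrivial V]
  [FiniteDimensional K V] {k : ℕ} {S : Setup K V (k + 3)}

/-- The fixed space of a three-cycle. -/
noncomputable def fixT (S : Setup K V (k + 3)) (t : Alt (k + 3)) : Submodule K V :=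
  LinearMap.ker (act (T S t) - 1)

theorem mem_fixT {t : Alt (k + 3)} {v : V} : v ∈ fixT S t ↔ act (T S t) v = v := by
  rw [fixT, LinearMap.mem_ker, LinearMap.sub_apply, Module.End.one_apply, sub_eq_zero]

theorem mem_fixT_conj (hk : 6 ≤ k) {t g : Alt (k + 3)} (ht : IsTri t) {l : (Module.End K V)ˣ}
    (hl : S.Is l g) {v : V} (hv : v ∈ fixT S t) : act l v ∈ fixT S (g * t * g⁻¹) := by
  rw [mem_fixT] at hv ⊢
  rw [← T_conj hk ht hl, mul_apply', mul_apply', ← mul_apply' l⁻¹, inv_mul_cancel]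
  show act l (act (T S t) v) = act l v
  rw [hv]

theorem fixT_inv (hk : 6 ≤ k) {t : Alt (k + 3)} (ht : IsTri t) : fixT S t⁻¹ = fixT S t := by
  ext v
  rw [mem_fixT, mem_fixT, T_inv hk ht]
  constructor <;> intro h
  · conv_lhs => rw [← h, ← mul_apply', mul_inv_cancel]
    rfl
  · conv_lhs => rw [← h, ← mul_apply', inv_mul_cancel]
    rfl

theorem isTri_t0 : IsTri (t0 k) := ⟨1, by simp⟩

theorem T_ne_one (hk : 6 ≤ k) {t : Alt (k + 3)} (ht : IsTri t) : T S t ≠ 1 := by
  intro h
  have h1 : S.Is (sc K V 1) t := by rw [map_one, ← h]; exact T_is hk ht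
  obtain ⟨g, rfl⟩ := ht
  have := h1.eq_one_of_sc (by omega)
  rw [mul_inv_eq_one, mul_eq_left] at this
  have h0 := congrArg (fun g : Alt (k + 3) => (g : Perm (Fin (k + 3))) ⟨0, by omega⟩) this
  simp only [t0] at h0
  rw [tri_first (by simp) (by simp) (by simp)] at h0
  simp at h0

theorem mov_t0_ne_bot (hk : 6 ≤ k) : mov S (t0 k) ≠ ⊥ := by
  intro h
  apply T_ne_one (S := S) hk isTri_t0
  rw [mov, LinearMap.range_eq_bot, sub_eq_zero] at h
  exact Units.ext h

theorem fixT_t0_ne_top (hk : 6 ≤ k) : fixT S (t0 k) ≠ ⊤ := by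
  intro h
  apply T_ne_one (S := S) hk isTri_t0
  rw [fixT, LinearMap.ker_eq_top, sub_eq_zero] at h
  exact Units.ext h

theorem act_comm_t0 (hk : 6 ≤ k) {a : Alt k} {l : (Module.End K V)ˣ} (hl : S.Is l (viaA (emb3 k) a))
    (v : V) : act l (act (T S (t0 k)) v) = act (T S (t0 k)) (act l v) :=
  congrArg (fun f : (Module.End K V)ˣ => act f v) (T_comm hk isTri_t0 hl (t0_comm_viaA a)).eq

theorem invZ_mov (hk : 6 ≤ k) : InvZ S (mov S (t0 k)) := by
  intro a l hl v hv
  have := mem_mov_conj hk isTri_t0 hl hv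
  rwa [(t0_comm_viaA a).eq, mul_inv_cancel_right] at this

theorem invZ_fixT (hk : 6 ≤ k) : InvZ S (fixT S (t0 k)) := by
  intro a l hl v hv
  have := mem_fixT_conj hk isTri_t0 hl hv
  rwa [(t0_comm_viaA a).eq, mul_inv_cancel_right] at this

/-- An element inverting or centralising `(0 1 2)` preserves the other points. -/
theorem range_emb3_invariant {g : Alt (k + 3)} (hg : g * t0 k * g⁻¹ = t0 k ∨ g * t0 k * g⁻¹ = (t0 k)⁻¹)
    (x : Fin k) : (g : Perm (Fin (k + 3))) (emb3 k x) ∈ Set.range (emb3 k) := by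
  have hfix : (t0 k : Perm (Fin (k + 3))) (emb3 k x) = emb3 k x :=
    tri_other (Fin.ne_of_val_ne (by rw [emb3_val]; simp)) (Fin.ne_of_val_ne (by rw [emb3_val]; simp))
      (Fin.ne_of_val_ne (by rw [emb3_val]; simp))
  have h1 : (t0 k : Perm (Fin (k + 3))) ((g : Perm (Fin (k + 3))) (emb3 k x)) =
      (g : Perm (Fin (k + 3))) (emb3 k x) := by
    rcases hg with h | h <;> have h := mul_inv_eq_iff_eq_mul.1 h
    · have e := congrArg (fun u : Alt (k + 3) => (u : Perm (Fin (k + 3))) (emb3 k x)) h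
      simp only [Subgroup.coe_mul, Perm.mul_apply, hfix] at e
      exact e.symm
    · have e := congrArg (fun u : Alt (k + 3) => (u : Perm (Fin (k + 3))) (emb3 k x)) h
      simp only [Subgroup.coe_mul, Subgroup.coe_inv, Perm.mul_apply, hfix] at e
      conv_lhs => rw [e]
      simp
  rw [mem_range_emb3]
  by_contra hc
  have e0 : (t0 k : Perm (Fin (k + 3))) ⟨0, by omega⟩ = ⟨1, by omega⟩ := tri_first (by simp) (by simp) (by simp)
  have e1 : (t0 k : Perm (Fin (k + 3))) ⟨1, by omega⟩ = ⟨2, by omega⟩ := tri_second (by simp) (by simp) (by simp)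
  have e2 : (t0 k : Perm (Fin (k + 3))) ⟨2, by omega⟩ = ⟨0, by omega⟩ := tri_third (by simp) (by simp)
  set y := (g : Perm (Fin (k + 3))) (emb3 k x)
  rcases (show (y : ℕ) = 0 ∨ (y : ℕ) = 1 ∨ (y : ℕ) = 2 by omega) with h | h | h
  · rw [show y = ⟨0, by omega⟩ from Fin.ext h, e0] at h1; simp at h1
  · rw [show y = ⟨1, by omega⟩ from Fin.ext h, e1] at h1; simp at h1
  · rw [show y = ⟨2, by omega⟩ from Fin.ext h, e2] at h1; simp at h1

/-- `P = a b`, `P² = ε`: the anticommutator. -/
theorem quadratic_rel {A : Type*} [Ring A] [Algebra K A] {a b : A} {ε : K} (hε : ε * ε = 1)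
    (ha : a * a + a + 1 = 0) (hb : b * b + b + 1 = 0) (h : a * b * (a * b) = ε • 1) :
    b * a + a + b + 1 = ε • (a * b) := by
  have ha3 : a * (a * a) = 1 := by linear_combination (norm := noncomm_ring) a * ha - ha
  have hb3 : b * (b * b) = 1 := by linear_combination (norm := noncomm_ring) b * hb - hb
  have hPi : a * b * (b * b * (a * a)) = 1 := by
    rw [show a * b * (b * b * (a * a)) = a * (b * (b * b)) * (a * a) by noncomm_ring, hb3, mul_one, ha3]
  have hab : a * a = -a - 1 := by linear_combination (norm := noncomm_ring) ha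
  have hbb : b * b = -b - 1 := by linear_combination (norm := noncomm_ring) hb
  calc b * a + a + b + 1 = b * b * (a * a) := by rw [hab, hbb]; noncomm_ring
    _ = (ε * ε) • (b * b * (a * a)) := by rw [hε, one_smul]
    _ = ε • (a * b * (a * b) * (b * b * (a * a))) := by rw [h, smul_mul_assoc, one_mul, smul_smul]
    _ = ε • (a * b) := by rw [mul_assoc (a * b) (a * b), hPi, mul_one]

end CfsgLib.AltDegree
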