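import Cfsg.Agent.Lib.AltDegree.Clifford
import Cfsg.Agent.Lib.AltDegree.Common

/-!
Fixed-point-free quadratic lifts generate a Clifford algebra.
-/

set_option autoImplicit false
set_option linter.unusedSectionVars false

namespace CfsgLib.AltDegree

open Equiv

variable {K : Type*} [Field K] [IsAlgClosed K] {V : Type*} [AddCommGroup V] [Module K V] [Nontrivial V]
  [FiniteDimensional K V] {k : ℕ} {S : Setup K V (k + 3)}

/-- Operators with scalar squares and anticommutators. -/
theorem clifford_bound {N : ℕ} (u : Fin N → Module.End K V) (G : Fin N → Fin N → K)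
    (hsq : ∀ i, ∃ c : K, u i * u i = c • 1) (hG : ∀ i j, u i * u j + u j * u i = G i j • 1)
    (hnd : ∀ x : Fin N → K, (∀ j, ∑ i, x i * G i j = 0) → x = 0) : 2 ^ (N / 2) ≤ Module.finrank K V := by
  classical
  let L := Fintype.linearCombination K u
  have hL : ∀ x, L x = ∑ i, x i • u i := fun x => rfl
  let B : (Fin N → K) →ₗ[K] (Fin N → K) →ₗ[K] K := Matrix.toLinearMap₂' K (Matrix.of G)
  have hB : ∀ x y, L x * L y + L y * L x = B x y • 1 := by
    intro x y
    rw [Matrix.toLinearMap₂'_apply, hL, hL, Finset.sum_mul_sum, Finset.sum_mul_sum,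
      Finset.sum_comm (f := fun i j => y i • u i * x j • u j), ← Finset.sum_add_distrib, Finset.sum_smul]
    refine Finset.sum_congr rfl fun i _ => ?_
    rw [← Finset.sum_add_distrib, Finset.sum_smul]
    refine Finset.sum_congr rfl fun j _ => ?_
    rw [Matrix.of_apply, smul_eq_mul, smul_eq_mul, smul_mul_smul_comm, smul_mul_smul_comm, mul_comm (y j),
      ← smul_add, hG, smul_smul]
    congr 1
    ring
  have hq : ∀ x, ∃ c : K, L x * L x = c • 1 := by
    intro x
    refine Pi.single_induction (fun x => ∃ c : K, L x * L x = c • 1) x ⟨0, by simp⟩ ?_ ?_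
    · rintro a b ⟨c, hc⟩ ⟨d, hd⟩
      refine ⟨c + d + B a b, ?_⟩
      rw [map_add, add_smul, add_smul, ← hc, ← hd, ← hB]
      noncomm_ring
    · intro i a
      obtain ⟨c, hc⟩ := hsq i
      refine ⟨a * a * c, ?_⟩
      rw [show L (Pi.single i a) = a • u i from Fintype.linearCombination_apply_single K u i a,
        smul_mul_smul_comm, hc, smul_smul]
  choose q hq using hq
  have hpure : ∀ x, (∀ y, B x y = 0) → x = 0 := fun x hx => hnd x fun j => by
    have h := hx (Pi.single j 1)
    rw [Matrix.toLinearMap₂'_apply', Matrix.mulVec_single_one] at h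
    simpa [dotProduct] using h
  simpa using two_pow_le_aux (K := K) N V (Fin N → K) L q B hq hB hpure (by simp)

/-- The point `i + 2`. -/
def pt2 {N : ℕ} (hN : N + 2 ≤ k + 3) (i : Fin N) : Fin (k + 3) := ⟨i + 2, by omega⟩

variable (hk : 6 ≤ k) (hq : ∀ t : Alt (k + 3), IsTri t → ∀ v, act (T S t) (act (T S t) v) + act (T S t) v + v = 0)

include hk hq

theorem pair_anticomm {N : ℕ} (hN : N + 2 ≤ k + 3) :
    ∃ a : Fin N → Module.End K V, (∀ i, a i * a i + a i + 1 = 0) ∧
      ∀ i j, i ≠ j → a i * a j + a j * a i + a i + a j + 1 = 0 := by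
  set P := q9 hk with hP
  obtain ⟨ε, hεε, hε⟩ := exists_eps (S := S) hk
  rw [← hP] at hε
  have hne : ∀ i : Fin N, pt2 hN i ≠ P 0 ∧ pt2 hN i ≠ P 1 := fun i =>
    ⟨Fin.ne_of_val_ne (show (i : ℕ) + 2 ≠ 0 by omega), Fin.ne_of_val_ne (show (i : ℕ) + 2 ≠ 1 by omega)⟩
  have h01 : P 0 ≠ P 1 := P.injective.ne (by decide)
  set t : Fin N → Alt (k + 3) := fun i => tri (P 0) (P 1) (pt2 hN i)
  have ht : ∀ i, IsTri (t i) := fun i => isTri_tri (by omega) h01 (hne i).2.symm (hne i).1.symm
  set a : Fin N → Module.End K V := fun i => act (T S (t i)) with ha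
  have hsq : ∀ i, a i * a i + a i + 1 = 0 := fun i => LinearMap.ext fun v => hq _ (ht i) v
  refine ⟨a, hsq, fun i j hij => ?_⟩
  have hij' : pt2 hN i ≠ pt2 hN j := fun h => hij (Fin.ext (by
    have e : (i : ℕ) + 2 = (j : ℕ) + 2 := congrArg Fin.val h
    omega))
  have hεc : (ε : K) * ε = 1 := by rw [← Units.val_mul, hεε, Units.val_one]
  have hp : ∀ i j, pt2 hN i ≠ pt2 hN j → a i * a j * (a i * a j) = (ε : K) • 1 := fun i j h => by
    have e := hε _ _ h (hne i).1 (hne i).2 (hne j).1 (hne j).2
    rw [pow_two] at e
    exact LinearMap.ext fun v => LinearMap.congr_fun (congrArg Units.val e) v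
  have r1 := quadratic_rel hεc (hsq i) (hsq j) (hp i j hij')
  have r2 := quadratic_rel hεc (hsq j) (hsq i) (hp j i hij'.symm)
  rcases mul_self_eq_one_iff.1 hεc with h | h
  · rw [h, one_smul] at r1 r2
    have e2 : (2 : K) • (a i + a j + 1) = 0 := by
      linear_combination (norm := module) r1 + r2
    rcases eq_or_ne (2 : K) 0 with h2 | h2
    · have e3 : (2 : K) • (a i * a j) = 0 := by rw [h2, zero_smul]
      linear_combination (norm := module) r1 + e3
    · exfalso
      have e4 := (smul_eq_zero.1 e2).resolve_left h2
      have e5 : a j = a i * a i := by linear_combination (norm := module) e4 - hsq i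
      have hT : T S (t j) = T S (t i)⁻¹ := by
        rw [T_inv hk (ht i)]
        refine eq_inv_of_mul_eq_one_left (Units.ext ?_)
        show a j * a i = 1
        rw [e5]
        linear_combination (norm := noncomm_ring) (a i) * hsq i - hsq i
      have h6 : t j = (t i)⁻¹ := by
        have i1 := T_is (S := S) hk (ht j)
        rw [hT] at i1
        have i2 : S.Is (sc K V 1) (t j * t i) := by
          have := i1.mul (T_is hk (ht i))
          rwa [T_inv hk (ht i), inv_mul_cancel, ← map_one (sc K V)] at this
        exact eq_inv_of_mul_eq_one_left (i2.eq_one_of_sc (by omega))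
      have h7 := congrArg (fun g : Alt (k + 3) => (g : Perm (Fin (k + 3))) (P 0)) h6
      simp only [t, tri_inv h01 (hne i).2.symm] at h7
      rw [tri_first h01 (hne j).2.symm (hne j).1.symm, tri_third (hne i).2 h01.symm] at h7
      exact (hne i).2 h7.symm
  · rw [h, neg_smul, one_smul] at r1
    linear_combination (norm := module) r1

theorem quadratic_bound (h3 : (3 : K) ≠ 0)
    (hcase : (k = 7 ∧ (2 : K) ≠ 0 ∧ (5 : K) ≠ 0) ∨ k = 8) : 16 ≤ Module.finrank K V := by
  classical
  rcases eq_or_ne (2 : K) 0 with h2 | h2
  · have hk8 : k = 8 := by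
      rcases hcase with ⟨-, h, -⟩ | h
      · exact absurd h2 h
      · exact h
    obtain ⟨a, hsq, hac⟩ := pair_anticomm (S := S) hk hq (N := 9) (by omega)
    let l : Fin 9 := 8
    have hne : ∀ i : Fin 8, i.castSucc ≠ l := fun i => Fin.castSucc_lt_last i |>.ne
    have h1 : (1 : Module.End K V) + 1 = 0 := by rw [← two_smul K (1 : Module.End K V), h2, zero_smul]
    have hd : ∀ x : Module.End K V, x + x = 0 := fun x => by rw [← two_smul K x, h2, zero_smul]
    have := clifford_bound (fun i : Fin 8 => a i.castSucc + a l) (fun i j => if i = j then 0 else 1)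
      (fun i => ⟨1, by
        rw [one_smul]
        linear_combination (norm := noncomm_ring) hsq i.castSucc + hsq l + hac i.castSucc l (hne i) -
          hd (a i.castSucc) - hd (a l) - hd 1 - hd 1⟩)
      (fun i j => by
        split_ifs with hij
        · subst hij; rw [zero_smul]; exact hd _
        · rw [one_smul]
          have hij' : i.castSucc ≠ j.castSucc := fun h => hij (Fin.castSucc_injective _ h)
          linear_combination (norm := noncomm_ring) hac i.castSucc j.castSucc hij' + hac i.castSucc l (hne i) +
            hac j.castSucc l (hne j) + hsq l + hsq l - hd (a i.castSucc) - hd (a j.castSucc) - hd (a l) - hd (a l)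
              - hd 1 - hd 1 - hd 1)
      (fun x hx => by
        have hj : ∀ j, x j = ∑ i, x i := fun j => by
          have := hx j
          have e : ∀ i, x i * (if i = j then (0 : K) else 1) = x i - (if i = j then x i else 0) := fun i => by
            split_ifs <;> ring
          rw [Finset.sum_congr rfl fun i _ => e i, Finset.sum_sub_distrib, Finset.sum_ite_eq', if_pos (Finset.mem_univ j),
            sub_eq_zero] at this
          exact this.symm
        have htot : (∑ i, x i) = 0 := by
          have h := Finset.sum_congr rfl fun i (_ : i ∈ Finset.univ) => hj i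
          rw [Finset.sum_const, Finset.card_univ, Fintype.card_fin, nsmul_eq_mul] at h
          push_cast at h
          linear_combination h + (4 * ∑ i, x i) * h2
        exact funext fun j => (hj j).trans htot)
    norm_num at this
    exact this
  · obtain ⟨N, hN, hN8, hN0⟩ : ∃ N, N + 2 ≤ k + 3 ∧ 8 ≤ N ∧ (4 + 2 * N : K) ≠ 0 := by
      rcases eq_or_ne (5 : K) 0 with h5 | h5
      · refine ⟨9, ?_, by omega, fun h => ?_⟩
        · rcases hcase with ⟨-, -, h⟩ | h
          · exact absurd h5 h
          · omega
        · push_cast at h
          exact h2 (by linear_combination h - 4 * h5)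
      · refine ⟨8, by omega, le_rfl, fun h => ?_⟩
        push_cast at h
        have : (2 : K) * 2 * 5 = 0 := by linear_combination h
        simp [h2, h5] at this
    obtain ⟨a, hsq, hac⟩ := pair_anticomm (S := S) hk hq hN
    have := clifford_bound (fun i => (2 : K) • a i + 1) (fun i j => if i = j then -6 else -2)
      (fun i => ⟨-3, by
        have e := congrArg (fun x : Module.End K V => (4 : K) • x) (hsq i)
        simp only [smul_zero, smul_add] at e
        rw [add_mul, mul_add, one_mul, mul_one, smul_mul_smul_comm]
        linear_combination (norm := module) e⟩)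
      (fun i j => by
        split_ifs with hij
        · subst hij
          have e := congrArg (fun x : Module.End K V => (4 : K) • x) (hsq i)
          simp only [smul_zero, smul_add] at e
          rw [add_mul, mul_add, one_mul, mul_one, smul_mul_smul_comm]
          linear_combination (norm := module) e + e
        · have e := congrArg (fun x : Module.End K V => (4 : K) • x) (hac i j hij)
          simp only [smul_zero, smul_add] at e
          rw [add_mul, mul_add, one_mul, mul_one, smul_mul_smul_comm, add_mul, mul_add, one_mul, mul_one,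
            smul_mul_smul_comm]
          linear_combination (norm := module) e)
      (fun x hx => by
        have hj : ∀ j, 2 * x j + ∑ i, x i = 0 := fun j => by
          have := hx j
          have e : ∀ i, x i * (if i = j then (-6 : K) else -2) = -2 * x i - (if i = j then 4 * x i else 0) := fun i => by
            split_ifs <;> ring
          rw [Finset.sum_congr rfl fun i _ => e i, Finset.sum_sub_distrib, ← Finset.mul_sum, Finset.sum_ite_eq',
            if_pos (Finset.mem_univ j)] at this
          have h4 : (2 : K) * (2 * x j + ∑ i, x i) = 0 := by linear_combination -this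
          exact (mul_eq_zero.1 h4).resolve_left h2
        have htot : (∑ i, x i) = 0 := by
          have h : ∑ j : Fin N, (2 * x j + ∑ i, x i) = 0 := Finset.sum_eq_zero fun j _ => hj j
          rw [Finset.sum_add_distrib, ← Finset.mul_sum, Finset.sum_const, Finset.card_univ, Fintype.card_fin,
            nsmul_eq_mul] at h
          have h4 : (4 + 2 * N : K) * ∑ i, x i = 0 := by linear_combination 2 * h
          exact (mul_eq_zero.1 h4).resolve_left hN0
        exact funext fun j => by
          have := hj j
          rw [htot, add_zero] at this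
          exact (mul_eq_zero.1 this).resolve_left h2)
    refine le_trans ?_ this
    exact le_trans (by norm_num : 16 ≤ 2 ^ 4) (Nat.pow_le_pow_right (by omega) (by omega))

end CfsgLib.AltDegree
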