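import Cfsg.Agent.Lib.AltDegree.Common

/-!
Joint eigenvalues of three disjoint three-cycles.
-/

set_option autoImplicit false
set_option linter.unusedSectionVars false

namespace CfsgLib.AltDegree

open Equiv

/-- Joint eigenvalue exponents. -/
abbrev Wt3 : Type := Fin 3 × Fin 3 × Fin 3

/-- The three symmetries. -/
def moves (w : Wt3) : List Wt3 :=
  [(w.2.2, w.1, w.2.1), (-w.1, -w.2.1, w.2.2), (w.2.1, w.1, -w.2.2)]

/-- Number of non-trivial coordinates. -/
def supp3 (w : Wt3) : ℕ :=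
  (if w.1 = 0 then 0 else 1) + (if w.2.1 = 0 then 0 else 1) + (if w.2.2 = 0 then 0 else 1)

/-- Iterated closure under the symmetries. -/
def closure3 : ℕ → Wt3 → List Wt3
  | 0, w => [w]
  | n + 1, w => ((closure3 n w) ++ (closure3 n w).flatMap moves).dedup

theorem closure3_facts : ∀ w : Wt3,
    (supp3 w = 1 → 6 ≤ (closure3 7 w).toFinset.card) ∧ (supp3 w = 2 → 12 ≤ (closure3 7 w).toFinset.card) ∧
      (supp3 w = 3 → 8 ≤ (closure3 7 w).toFinset.card) ∧ ∀ x ∈ (closure3 7 w), supp3 x = supp3 w := by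
  decide +kernel

theorem closure3_subset {S : Finset Wt3} (hS : ∀ w ∈ S, ∀ x ∈ moves w, x ∈ S) :
    ∀ (n : ℕ) (w : Wt3), w ∈ S → (closure3 n w).toFinset ⊆ S := by
  intro n
  induction n with
  | zero => intro w hw x hx; simp [closure3] at hx; exact hx ▸ hw
  | succ n ih =>
    intro w hw x hx
    simp only [closure3, List.mem_toFinset, List.mem_dedup, List.mem_append, List.mem_flatMap] at hx
    rcases hx with hx | ⟨y, hy, hxy⟩
    · exact ih w hw (List.mem_toFinset.2 hx)
    · exact hS y (ih w hw (List.mem_toFinset.2 hy)) x hxy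

theorem card_of_invariant {S : Finset Wt3} (hS : ∀ w ∈ S, ∀ x ∈ moves w, x ∈ S) {w : Wt3} (hw : w ∈ S)
    (h2 : 2 ≤ supp3 w) : 8 ≤ S.card ∧ ∀ u ∈ S, 1 ≤ supp3 u → supp3 u ≤ 2 → 12 ≤ S.card := by
  obtain ⟨-, f2, f3, fs⟩ := closure3_facts w
  have hsub := Finset.card_le_card (closure3_subset hS 7 w hw)
  have hle : supp3 w ≤ 3 := by unfold supp3; split_ifs <;> omega
  refine ⟨?_, fun u hu u1 u2 => ?_⟩
  · rcases (show supp3 w = 2 ∨ supp3 w = 3 by omega) with h | h
    · have := f2 h; omega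
    · have := f3 h; omega
  · by_cases hw2 : supp3 w = 2
    · have := f2 hw2; omega
    obtain ⟨g1, g2, -, gs⟩ := closure3_facts u
    by_cases hu2 : supp3 u = 2
    · have := g2 hu2
      have := Finset.card_le_card (closure3_subset hS 7 u hu)
      omega
    have hdis : Disjoint (closure3 7 w).toFinset (closure3 7 u).toFinset := Finset.disjoint_left.2 fun x hx hx' => by
      have e1 := fs x (List.mem_toFinset.1 hx)
      have e2 := gs x (List.mem_toFinset.1 hx')
      omega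
    have := Finset.card_le_card (Finset.union_subset (closure3_subset hS 7 w hw) (closure3_subset hS 7 u hu))
    rw [Finset.card_union_of_disjoint hdis] at this
    have := f3 (by omega)
    have := g1 (by omega)
    omega

variable {K : Type*} [Field K] [IsAlgClosed K] {V : Type*} [AddCommGroup V] [Module K V] [Nontrivial V]
  [FiniteDimensional K V] {k : ℕ} {S : Setup K V (k + 3)}

/-- Splitting off an eigencomponent of an operator of order three. -/
theorem exists_eigen {ω : K} (hω : ω * ω + ω + 1 = 0) (h3 : (3 : K) ≠ 0) (f : Module.End K V)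
    (hf : ∀ v, f (f (f v)) = v) {v : V} (hv : v ≠ 0) :
    ∃ a : Fin 3, ∃ u ≠ (0 : V), f u = ω ^ (a : ℕ) • u ∧
      ∀ (g : Module.End K V) (c : K), (∀ x, g (f x) = f (g x)) → g v = c • v → g u = c • u := by
  have hω3 : ω * (ω * ω) = 1 := by linear_combination ω * hω - hω
  set u := fun x : K => v + x • f v + (x * x) • f (f v) with hu
  have heig : ∀ x y : K, x * y = 1 → x * x * x = 1 → f (u x) = y • u x := by
    intro x y hxy hx3
    have hy : y = x * x := mul_left_cancel₀ (left_ne_zero_of_mul_eq_one hxy) (by rw [hxy, ← mul_assoc, hx3])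
    simp only [hu, map_add, map_smul, hf, smul_add, smul_smul, hy]
    rw [show x * x * x = 1 from hx3, show x * x * (x * x) = x by linear_combination x * hx3, one_smul]
    abel
  have hcomm : ∀ x (g : Module.End K V) (c : K), (∀ x, g (f x) = f (g x)) → g v = c • v → g (u x) = c • u x := by
    intro x g c hg hgv
    simp only [hu, map_add, map_smul, hg, hgv, smul_add, smul_smul, mul_comm]
  have hsum : u 1 + u (ω * ω) + u ω = (3 : K) • v := by
    simp only [hu]
    linear_combination (norm := module) congrArg (fun c : K => c • f v) hω +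
      congrArg (fun c : K => c • f (f v)) (show ω * ω * (ω * ω) + ω * ω + 1 = 0 by linear_combination ω * hω3 + hω)
  by_cases h0 : u 1 = 0
  · by_cases h1 : u (ω * ω) = 0
    · refine ⟨2, u ω, fun h => hv ?_, ?_, fun g c => hcomm ω g c⟩
      · rw [h0, h1, h, zero_add, zero_add, eq_comm, smul_eq_zero] at hsum
        exact hsum.resolve_left h3
      · exact heig ω (ω ^ 2) (by rw [pow_two, hω3]) (by linear_combination hω3)
    · refine ⟨1, u (ω * ω), h1, ?_, fun g c => hcomm _ g c⟩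
      exact heig (ω * ω) (ω ^ 1) (by linear_combination hω3) (by linear_combination (ω * ω * ω + 1) * hω3)
  · refine ⟨0, u 1, h0, ?_, fun g c => hcomm 1 g c⟩
    exact heig 1 (ω ^ 0) (by simp) (by simp)

/-- The three disjoint three-cycles. -/
def t9 : Fin 3 → Alt 9 := ![tri 0 1 2, tri 3 4 5, tri 6 7 8]

theorem t9_tri : ∀ i : Fin 3, ∃ a b c : Fin 9, a ≠ b ∧ b ≠ c ∧ a ≠ c ∧ t9 i = tri a b c := by
  intro i
  fin_cases i
  exacts [⟨0, 1, 2, by decide, by decide, by decide, rfl⟩, ⟨3, 4, 5, by decide, by decide, by decide, rfl⟩,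
    ⟨6, 7, 8, by decide, by decide, by decide, rfl⟩]

theorem t9_comm : ∀ i j : Fin 3, t9 i * t9 j = t9 j * t9 i := by decide +kernel

theorem omega_pow_ne {ω : K} (hω : ω * ω + ω + 1 = 0) (h3 : (3 : K) ≠ 0) {a b : Fin 3} (h : a ≠ b) :
    ω ^ (a : ℕ) ≠ ω ^ (b : ℕ) := by
  have h1 : ω ≠ 1 := by rintro rfl; exact h3 (by linear_combination hω)
  have h0 : ω ≠ 0 := by rintro rfl; simp at hω
  have h21 : ω * ω ≠ ω := fun e => h1 (mul_left_cancel₀ h0 (by rw [e, mul_one]))
  have h20 : ω * ω ≠ 1 := fun e => h1 (by linear_combination (ω - 1) * hω - ω * e + e - e)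
  fin_cases a <;> fin_cases b <;> simp_all [pow_two, eq_comm]

theorem weights (hk : 6 ≤ k) (h3 : (3 : K) ≠ 0) {ω : K} (hω : ω * ω + ω + 1 = 0)
    (hne : ∃ v, act (T S (viaA (q9 hk) (t9 0))) v = ω • v ∧ act (T S (viaA (q9 hk) (t9 1))) v ≠ v) :
    8 ≤ Module.finrank K V ∧ (Module.finrank K V < 12 →
      fixT S (viaA (q9 hk) (t9 0)) = fixT S (viaA (q9 hk) (t9 1))) := by
  classical
  set P := q9 hk with hP
  set X : Fin 3 → Module.End K V := fun i => act (T S (viaA P (t9 i))) with hX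
  have htri : ∀ i, IsTri (viaA P (t9 i)) := fun i => by
    obtain ⟨a, b, c, hab, hbc, hac, e⟩ := t9_tri i
    rw [e, viaA_tri P hab hbc hac]
    exact isTri_q9 hk hab hbc hac
  have hcube : ∀ i v, X i (X i (X i v)) = v := fun i v => by
    have := congrArg (fun f : (Module.End K V)ˣ => act f v) (T_pow_three hk (htri i) (S := S))
    simpa [X, act, pow_succ] using this
  have hcomm : ∀ i j v, X i (X j v) = X j (X i v) := fun i j v => by
    have e : Commute (viaA P (t9 i)) (viaA P (t9 j)) :=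
      (show Commute (t9 i) (t9 j) from t9_comm i j).map _
    exact congrArg (fun f : (Module.End K V)ˣ => act f v) (T_comm hk (htri j) (T_is hk (htri i)) e).eq
  let IsW : Wt3 → Prop := fun w => ∃ v ≠ (0 : V), X 0 v = ω ^ (w.1 : ℕ) • v ∧
    X 1 v = ω ^ (w.2.1 : ℕ) • v ∧ X 2 v = ω ^ (w.2.2 : ℕ) • v
  have hω3 : ω ^ 3 = 1 := by linear_combination ω * hω - hω
  have hneg : ∀ a : Fin 3, ω ^ (a : ℕ) * ω ^ ((-a : Fin 3) : ℕ) = 1 := fun a => by
    fin_cases a
    · simp
    · show ω ^ 1 * ω ^ 2 = 1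
      rw [← pow_add]; exact hω3
    · show ω ^ 2 * ω ^ 1 = 1
      rw [← pow_add]; exact hω3
  -- transport along a permutation of the nine points
  have hmove : ∀ (g : Alt 9) (i j : Fin 3) (v : V) (a : Fin 3) (l : (Module.End K V)ˣ), S.Is l (viaA P g) →
      X i v = ω ^ (a : ℕ) • v →
        (g * t9 i * g⁻¹ = t9 j → X j (act l v) = ω ^ (a : ℕ) • act l v) ∧
        (g * t9 i * g⁻¹ = (t9 j)⁻¹ → X j (act l v) = ω ^ ((-a : Fin 3) : ℕ) • act l v) := by
    intro g i j v a l hl hv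
    have hc := T_conj hk (htri i) hl (S := S)
    rw [← map_mul, ← map_inv, ← map_mul] at hc
    refine ⟨fun h => ?_, fun h => ?_⟩
    · rw [h] at hc
      show act (T S (viaA P (t9 j))) (act l v) = _
      rw [← hc, mul_apply', mul_apply', ← mul_apply' l⁻¹, inv_mul_cancel]
      show act l (X i v) = _
      rw [hv, map_smul]
    · rw [h, map_inv, T_inv hk (htri j)] at hc
      have e1 : act (T S (viaA P (t9 j)))⁻¹ (act l v) = ω ^ (a : ℕ) • act l v := by
        rw [← hc, mul_apply', mul_apply', ← mul_apply' l⁻¹, inv_mul_cancel]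
        show act l (X i v) = _
        rw [hv, map_smul]
      have e2 := congrArg (act (T S (viaA P (t9 j)))) e1
      rw [← mul_apply', mul_inv_cancel, map_smul] at e2
      calc X j (act l v) = (ω ^ ((-a : Fin 3) : ℕ) * ω ^ (a : ℕ)) • X j (act l v) := by
            rw [mul_comm, hneg, one_smul]
        _ = _ := by rw [← smul_smul]; exact congrArg _ e2.symm
  let gP : Alt 9 := tri 0 3 6 * tri 1 4 7 * tri 2 5 8
  let gI : Alt 9 := ⟨swap 0 1 * swap 3 4, Perm.mem_alternatingGroup.2 (by decide)⟩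
  let gJ : Alt 9 := ⟨swap 0 3 * swap 1 4 * swap 2 5 * swap 6 7, Perm.mem_alternatingGroup.2 (by decide)⟩
  have hgP : gP * t9 0 * gP⁻¹ = t9 1 ∧ gP * t9 1 * gP⁻¹ = t9 2 ∧ gP * t9 2 * gP⁻¹ = t9 0 := by decide +kernel
  have hgI : gI * t9 0 * gI⁻¹ = (t9 0)⁻¹ ∧ gI * t9 1 * gI⁻¹ = (t9 1)⁻¹ ∧ gI * t9 2 * gI⁻¹ = t9 2 := by decide +kernel
  have hgJ : gJ * t9 0 * gJ⁻¹ = t9 1 ∧ gJ * t9 1 * gJ⁻¹ = t9 0 ∧ gJ * t9 2 * gJ⁻¹ = (t9 2)⁻¹ := by decide +kernel
  have hl0 : ∀ (l : (Module.End K V)ˣ) (v : V), v ≠ 0 → act l v ≠ 0 := fun l v hv h => hv (by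
    have := congrArg (act l⁻¹) h
    rwa [map_zero, ← mul_apply', inv_mul_cancel] at this)
  let Sw : Finset Wt3 := Finset.univ.filter IsW
  have hS : ∀ w ∈ Sw, ∀ x ∈ moves w, x ∈ Sw := by
    intro w hw x hx
    obtain ⟨v, hv, h0, h1, h2⟩ := (Finset.mem_filter.1 hw).2
    refine Finset.mem_filter.2 ⟨Finset.mem_univ _, ?_⟩
    simp only [moves, List.mem_cons, List.not_mem_nil, or_false] at hx
    rcases hx with rfl | rfl | rfl
    · obtain ⟨l, hl⟩ := S.exists_is (viaA P gP)
      exact ⟨act l v, hl0 l v hv, (hmove gP 2 0 v _ l hl h2).1 hgP.2.2, (hmove gP 0 1 v _ l hl h0).1 hgP.1,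
        (hmove gP 1 2 v _ l hl h1).1 hgP.2.1⟩
    · obtain ⟨l, hl⟩ := S.exists_is (viaA P gI)
      exact ⟨act l v, hl0 l v hv, (hmove gI 0 0 v _ l hl h0).2 hgI.1, (hmove gI 1 1 v _ l hl h1).2 hgI.2.1,
        (hmove gI 2 2 v _ l hl h2).1 hgI.2.2⟩
    · obtain ⟨l, hl⟩ := S.exists_is (viaA P gJ)
      exact ⟨act l v, hl0 l v hv, (hmove gJ 1 0 v _ l hl h1).1 hgJ.2.1, (hmove gJ 0 1 v _ l hl h0).1 hgJ.1,
        (hmove gJ 2 2 v _ l hl h2).2 hgJ.2.2⟩
  -- refine an eigenvector to a weight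
  have hrefine : ∀ (a : Fin 3) (v : V), v ≠ 0 → X 0 v = ω ^ (a : ℕ) • v → X 1 v ≠ v →
      ∃ w ∈ Sw, w.1 = a ∧ w.2.1 ≠ 0 := by
    intro a v hv h0 h1
    set u := X 1 v - v with hu
    have hu0 : u ≠ 0 := sub_ne_zero.2 h1
    have hua : X 0 u = ω ^ (a : ℕ) • u := by rw [hu, map_sub, hcomm, h0, map_smul, smul_sub]
    obtain ⟨b, u', hu', hb, hk1⟩ := exists_eigen hω h3 (X 1) (hcube 1) hu0
    have hQ : u + X 1 u + X 1 (X 1 u) = 0 := by rw [hu]; simp only [map_sub, hcube]; abel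
    obtain ⟨c, u'', hu'', hc, hk2⟩ := exists_eigen hω h3 (X 2) (hcube 2) hu'
    refine ⟨(a, b, c), Finset.mem_filter.2 ⟨Finset.mem_univ _, u'', hu'', hk2 _ _ (hcomm 0 2) (hk1 _ _ (hcomm 0 1) hua),
      hk2 _ _ (hcomm 1 2) hb, hc⟩, rfl, fun hb0 => ?_⟩
    change b = 0 at hb0
    subst hb0
    have e := hk1 (1 + X 1 + X 1 * X 1) 0 (fun x => by simp) (by rw [zero_smul]; exact hQ)
    simp only [LinearMap.add_apply, Module.End.one_apply, Module.End.mul_apply, hb, Fin.val_zero, pow_zero,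
      one_smul, zero_smul] at e
    exact hu' ((smul_eq_zero.1 (show (3 : K) • u' = 0 by rw [← e]; module)).resolve_left h3)
  obtain ⟨v, hv0, hv1⟩ := hne
  have hvne : v ≠ 0 := fun h => hv1 (by rw [h, map_zero])
  obtain ⟨w, hw, hwa, hwb⟩ := hrefine 1 v hvne (by show X 0 v = ω ^ 1 • v; rw [pow_one]; exact hv0) hv1
  have hw2 : 2 ≤ supp3 w := by
    rw [supp3, if_neg (by rw [hwa]; decide), if_neg hwb]; omega
  obtain ⟨h8, h12⟩ := card_of_invariant hS hw hw2
  -- weight vectors are independent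
  have hli : Sw.card ≤ Module.finrank K V := by
    choose vec hvec0 hv0' hv1' hv2' using fun s : {w // w ∈ Sw} => (Finset.mem_filter.1 s.2).2
    let op : Fin 3 → Fin 3 → Module.End K V := fun i a =>
      (X i - ω ^ ((a + 1 : Fin 3) : ℕ) • 1) * (X i - ω ^ ((a + 2 : Fin 3) : ℕ) • 1)
    let sca : Fin 3 → Fin 3 → K := fun a b =>
      (ω ^ (b : ℕ) - ω ^ ((a + 1 : Fin 3) : ℕ)) * (ω ^ (b : ℕ) - ω ^ ((a + 2 : Fin 3) : ℕ))
    have hop : ∀ (i a b : Fin 3) (v : V), X i v = ω ^ (b : ℕ) • v → op i a v = sca a b • v := fun i a b v h => by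
      simp only [op, sca, Module.End.mul_apply, LinearMap.sub_apply, LinearMap.smul_apply, Module.End.one_apply,
        map_sub, map_smul, h]
      module
    have hscz : ∀ a b, a ≠ b → sca a b = 0 := fun a b h => by
      rcases (show b = a + 1 ∨ b = a + 2 by revert a b; decide) with rfl | rfl <;> simp [sca]
    have hscne : ∀ a, sca a a ≠ 0 := fun a =>
      mul_ne_zero (sub_ne_zero.2 (omega_pow_ne hω h3 (by revert a; decide)))
        (sub_ne_zero.2 (omega_pow_ne hω h3 (by revert a; decide)))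
    have : LinearIndependent K vec := by
      refine Fintype.linearIndependent_iff.2 fun g hg s => ?_
      have h := congrArg (fun x => op 0 s.1.1 (op 1 s.1.2.1 (op 2 s.1.2.2 x))) hg
      simp only [map_sum, map_smul, map_zero, hop _ _ _ _ (hv2' _), hop _ _ _ _ (hv1' _),
        hop _ _ _ _ (hv0' _)] at h
      rw [Finset.sum_eq_single s (fun b _ hb => ?_) (fun h' => absurd (Finset.mem_univ _) h')] at h
      · simpa [smul_smul, hscne, hvec0 s] using h
      · by_cases e0 : b.1.1 = s.1.1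
        · by_cases e1 : b.1.2.1 = s.1.2.1
          · by_cases e2 : b.1.2.2 = s.1.2.2
            · exact absurd (Subtype.ext (Prod.ext e0 (Prod.ext e1 e2))) hb
            · simp [hscz _ _ (Ne.symm e2)]
          · simp [hscz _ _ (Ne.symm e1)]
        · simp [hscz _ _ (Ne.symm e0)]
    simpa using this.fintype_card_le_finrank
  refine ⟨h8.trans hli, fun hlt => ?_⟩
  have key : ∀ v, X 0 v = v → X 1 v = v := fun v hv => by
    by_contra h1
    have hvne : v ≠ 0 := fun h => h1 (by rw [h, map_zero])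
    obtain ⟨u, hu, hua, hub⟩ := hrefine 0 v hvne (by rw [Fin.val_zero, pow_zero, one_smul]; exact hv) h1
    have := h12 u hu (by rw [supp3, if_neg hub]; omega)
      (by rw [supp3, if_pos hua]; split_ifs <;> omega)
    omega
  refine le_antisymm (fun x hx => ?_) (fun x hx => ?_)
  · rw [mem_fixT] at hx ⊢
    exact key x hx
  · rw [mem_fixT] at hx ⊢
    obtain ⟨l, hl⟩ := S.exists_is (viaA P gJ)
    have e1 := (hmove gJ 1 0 x 0 l hl (by rw [Fin.val_zero, pow_zero, one_smul]; exact hx)).1 hgJ.2.1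
    rw [Fin.val_zero, pow_zero, one_smul] at e1
    have e2 := key _ e1
    have hc := T_conj hk (htri 0) hl (S := S)
    rw [← map_mul, ← map_inv, ← map_mul, hgJ.1] at hc
    change act (T S (viaA P (t9 1))) (act l x) = act l x at e2
    rw [← hc, mul_apply', mul_apply', ← mul_apply' l⁻¹, inv_mul_cancel] at e2
    have := congrArg (act l⁻¹) e2
    rwa [← mul_apply' l⁻¹, ← mul_apply' l⁻¹, inv_mul_cancel] at this

end CfsgLib.AltDegree
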