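import Cfsg.Agent.Lib.AltDegree.Cycle
import Cfsg.Agent.Lib.AltDegree.Quadratic
import Cfsg.Agent.Lib.AltDegree.Weights

/-!
The degree bound for a group with scalar kernel, given the bound for the point stabiliser.
-/

set_option autoImplicit false
set_option linter.unusedSectionVars false

namespace CfsgLib.AltDegree

open Equiv

variable {K : Type*} [Field K] [IsAlgClosed K] {V : Type*} [AddCommGroup V] [Module K V] [Nontrivial V]
  [FiniteDimensional K V] {k : ℕ} {S : Setup K V (k + 3)}

/-- An eigenspace of `T (0 1 2)`. -/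
noncomputable def eigT (S : Setup K V (k + 3)) (c : K) : Submodule K V :=
  LinearMap.ker (act (T S (t0 k)) - c • 1)

theorem mem_eigT {c : K} {v : V} : v ∈ eigT S c ↔ act (T S (t0 k)) v = c • v := by
  rw [eigT, LinearMap.mem_ker, LinearMap.sub_apply, LinearMap.smul_apply, Module.End.one_apply, sub_eq_zero]

theorem invZ_eigT (hk : 6 ≤ k) (c : K) : InvZ S (eigT S c) := by
  intro a l hl v hv
  rw [mem_eigT] at hv ⊢
  rw [← act_comm_t0 hk hl v, hv, map_smul]

theorem eigT_ne_top (hk : 6 ≤ k) {c : K} (hc : c ≠ 0) : eigT S c ≠ ⊤ := by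
  intro h
  have e : T S (t0 k) = sc K V (Units.mk0 c hc) := Units.ext (LinearMap.ext fun v => by
    have := mem_eigT.1 (h ▸ Submodule.mem_top : v ∈ eigT S c)
    rw [sc_apply]
    exact this)
  have h1 := T_is (S := S) hk isTri_t0
  rw [e] at h1
  have h2 := h1.eq_one_of_sc (by omega)
  have h0 := congrArg (fun g : Alt (k + 3) => (g : Perm (Fin (k + 3))) ⟨0, by omega⟩) h2
  simp only [t0] at h0
  rw [tri_first (by simp) (by simp) (by simp)] at h0
  simp at h0

/-- An inverter exchanges the eigenspaces. -/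
theorem trivial3_eigT_swap (hk : 6 ≤ k) {c d : K} (hcd : c * d = 1) (h : Trivial3 S (eigT S d)) :
    Trivial3 S (eigT S c) := by
  intro a b e hab hbe hae v hv
  obtain ⟨x, hx, -⟩ := exists_invert_t0 hk
  obtain ⟨l, hl⟩ := S.exists_is x
  obtain ⟨a', ha'⟩ := range_emb3_invariant (Or.inr hx) a
  obtain ⟨b', hb'⟩ := range_emb3_invariant (Or.inr hx) b
  obtain ⟨e', he'⟩ := range_emb3_invariant (Or.inr hx) e
  rw [mem_eigT] at hv
  have hlv : act l v ∈ eigT S d := by
    rw [mem_eigT]
    have h1 := T_conj hk isTri_t0 hl (S := S)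
    rw [hx, T_inv hk isTri_t0] at h1
    have h2 : act l (act (T S (t0 k)) v) = act (T S (t0 k))⁻¹ (act l v) := by
      rw [← mul_apply', ← mul_apply', ← h1, inv_mul_cancel_right]
    rw [hv, map_smul] at h2
    have h3 := congrArg (fun w => d • act (T S (t0 k)) w) h2
    simp only [map_smul, smul_smul, mul_comm d c, hcd, one_smul] at h3
    rw [h3, ← mul_apply', mul_inv_cancel]
    rfl
  have inj := (x : Perm (Fin (k + 3))).injective
  have emb := (emb3 k).injective
  have hab' : a' ≠ b' := fun q => hab (emb (inj (by rw [← ha', ← hb', q])))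
  have hbe' : b' ≠ e' := fun q => hbe (emb (inj (by rw [← hb', ← he', q])))
  have hae' : a' ≠ e' := fun q => hae (emb (inj (by rw [← ha', ← he', q])))
  have h4 := h a' b' e' hab' hbe' hae' _ hlv
  have h5 := T_conj hk (isTri_viaA hk hab hbe hae) hl (S := S)
  rw [viaA_tri _ hab hbe hae, tri_conj x (emb.ne hab) (emb.ne hbe), ← ha', ← hb', ← he',
    ← viaA_tri (emb3 k) hab' hbe' hae'] at h5
  rw [← h5, mul_apply', mul_apply', ← mul_apply' l⁻¹, inv_mul_cancel] at h4
  have h6 := congrArg (act l⁻¹) h4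
  rw [viaA_tri _ hab hbe hae]
  rw [← mul_apply' l⁻¹, ← mul_apply' l⁻¹, inv_mul_cancel] at h6
  exact h6

theorem mov_quadratic (hk : 6 ≤ k) {v : V} (hv : v ∈ mov S (t0 k)) :
    act (T S (t0 k)) (act (T S (t0 k)) v) + act (T S (t0 k)) v + v = 0 := by
  obtain ⟨u, rfl⟩ := hv
  have h := congrArg (fun f : (Module.End K V)ˣ => act f u) (T_pow_three (S := S) hk isTri_t0)
  simp only [act, pow_succ, pow_zero, one_mul, Units.val_mul, Units.val_one, Module.End.mul_apply,
    Module.End.one_apply] at h
  simp only [act, LinearMap.sub_apply, Module.End.one_apply, map_sub, h]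
  abel

theorem not_trivial3_eigT (hk : 6 ≤ k) {ω : K} (hω : ω * ω + ω + 1 = 0) (h3 : (3 : K) ≠ 0)
    (hmov : ¬ Trivial3 S (mov S (t0 k))) :
    ¬ Trivial3 S (eigT S ω) ∧ ¬ Trivial3 S (eigT S (ω * ω)) := by
  have hω3 : ω * (ω * ω) = 1 := by linear_combination ω * hω - hω
  have key : ¬ (Trivial3 S (eigT S ω) ∧ Trivial3 S (eigT S (ω * ω))) := by
    rintro ⟨h1, h2⟩
    refine hmov fun a b c hab hbc hac v hv => ?_
    set X := act (T S (t0 k)) with hX
    have hq : X (X v) + X v + v = 0 := mov_quadratic hk hv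
    have e1 : X v - (ω * ω) • v ∈ eigT S ω := by
      rw [mem_eigT, ← hX, map_sub, map_smul]
      linear_combination (norm := module) hq + congrArg (fun y : K => y • X v) (show -(ω * ω) - ω - 1 = 0 by
        linear_combination -hω) + congrArg (fun y : K => y • v) (show ω * (ω * ω) - 1 = 0 by linear_combination hω3)
    have e2 : X v - ω • v ∈ eigT S (ω * ω) := by
      rw [mem_eigT, ← hX, map_sub, map_smul]
      linear_combination (norm := module) hq + congrArg (fun y : K => y • X v) (show -(ω * ω) - ω - 1 = 0 by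
        linear_combination -hω) + congrArg (fun y : K => y • v) (show ω * (ω * ω) - 1 = 0 by linear_combination hω3)
    have f1 := h1 a b c hab hbc hac _ e1
    have f2 := h2 a b c hab hbc hac _ e2
    set Y := act (T S (viaA (emb3 k) (tri a b c))) with hY
    rw [map_sub, map_smul] at f1 f2
    have hne : ω - ω * ω ≠ 0 := by
      intro h
      have hω1 : ω = 1 := by linear_combination hω3 + (ω + 1) * h
      rw [hω1] at hω
      exact h3 (by linear_combination hω)
    have : (ω - ω * ω) • (Y v - v) = 0 := by linear_combination (norm := module) f1 - f2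
    exact sub_eq_zero.1 ((smul_eq_zero.1 this).resolve_left hne)
  constructor <;> intro h
  · exact key ⟨h, trivial3_eigT_swap hk (show (ω * ω) * ω = 1 by rw [mul_comm, hω3]) h⟩
  · exact key ⟨trivial3_eigT_swap hk hω3 h, h⟩

/-- Three points outside a small set. -/
theorem exists_three {n : ℕ} (s : Finset (Fin n)) (h : s.card + 3 ≤ n) :
    ∃ x y z : Fin n, x ≠ y ∧ y ≠ z ∧ x ≠ z ∧ x ∉ s ∧ y ∉ s ∧ z ∉ s := by
  obtain ⟨u, hu, hcard⟩ := Finset.exists_subset_card_eq (s := Finset.univ \ s) (n := 3)
    (by rw [Finset.card_univ_sdiff, Fintype.card_fin]; omega)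
  obtain ⟨x, y, z, hxy, hxz, hyz, rfl⟩ := Finset.card_eq_three.1 hcard
  simp only [Finset.insert_subset_iff, Finset.singleton_subset_iff, Finset.mem_sdiff, Finset.mem_univ,
    true_and] at hu
  exact ⟨x, y, z, hxy, hyz, hxz, hu.1, hu.2.1, hu.2.2⟩

/-- If disjoint three-cycles have nested fixed spaces, these are zero. -/
theorem fixT_eq_bot (hk : 6 ≤ k)
    (h : fixT S (viaA (q9 hk) (t9 0)) ≤ fixT S (viaA (q9 hk) (t9 1))) : fixT S (t0 k) = ⊥ := by
  classical
  set P := q9 hk with hP
  have e0 : viaA P (t9 0) = tri (P 0) (P 1) (P 2) := by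
    rw [show t9 0 = tri 0 1 2 from rfl, viaA_tri P (by decide) (by decide) (by decide)]
  have e1 : viaA P (t9 1) = tri (P 3) (P 4) (P 5) := by
    rw [show t9 1 = tri 3 4 5 from rfl, viaA_tri P (by decide) (by decide) (by decide)]
  have hdisj : ∀ a b c d e f : Fin (k + 3), a ≠ b → b ≠ c → a ≠ c → d ≠ e → e ≠ f → d ≠ f →
      (∀ i ∈ [d, e, f], i ∉ [a, b, c]) → fixT S (tri a b c) ≤ fixT S (tri d e f) := by
    intro a b c d e f hab hbc hac hde hef hdf hd v hv
    simp only [List.mem_cons, List.not_mem_nil, or_false, forall_eq_or_imp, forall_eq, not_or] at hd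
    obtain ⟨⟨d1, d2, d3⟩, ⟨e1', e2', e3'⟩, f1, f2, f3⟩ := hd
    have hinj : Function.Injective ![a, b, c, d, e, f] := by
      intro x y hxy
      fin_cases x <;> fin_cases y <;> first
        | rfl
        | exact absurd hxy (by assumption)
        | exact absurd hxy.symm (by assumption)
    obtain ⟨g, hg⟩ := exists_map (n := k + 3) (j := 6) (by omega)
      (u := fun i => P (![0, 1, 2, 3, 4, 5] i)) (v := ![a, b, c, d, e, f]) (P.injective.comp (by decide)) hinj
    have p01 : P 0 ≠ P 1 := P.injective.ne (by decide)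
    have p12 : P 1 ≠ P 2 := P.injective.ne (by decide)
    have p34 : P 3 ≠ P 4 := P.injective.ne (by decide)
    have p45 : P 4 ≠ P 5 := P.injective.ne (by decide)
    have g0 : g * viaA P (t9 0) * g⁻¹ = tri a b c := by
      rw [e0, tri_conj g p01 p12, show (g : Perm (Fin (k + 3))) (P 0) = a from hg 0,
        show (g : Perm (Fin (k + 3))) (P 1) = b from hg 1, show (g : Perm (Fin (k + 3))) (P 2) = c from hg 2]
    have g1 : g * viaA P (t9 1) * g⁻¹ = tri d e f := by
      rw [e1, tri_conj g p34 p45, show (g : Perm (Fin (k + 3))) (P 3) = d from hg 3,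
        show (g : Perm (Fin (k + 3))) (P 4) = e from hg 4, show (g : Perm (Fin (k + 3))) (P 5) = f from hg 5]
    obtain ⟨l, hl⟩ := S.exists_is g
    have h1 : act l⁻¹ v ∈ fixT S (viaA P (t9 0)) := by
      have := mem_fixT_conj hk (isTri_tri (by omega) hab hbc hac) hl.inv hv
      rwa [← g0, show g⁻¹ * (g * viaA P (t9 0) * g⁻¹) * g⁻¹⁻¹ = viaA P (t9 0) by group] at this
    have ht : IsTri (viaA P (t9 1)) := e1 ▸ isTri_q9 hk (by decide) (by decide) (by decide)
    have := mem_fixT_conj hk ht hl (h h1)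
    rw [g1, ← mul_apply', mul_inv_cancel] at this
    exact this
  have hall : ∀ t, IsTri t → fixT S (t0 k) ≤ fixT S t := by
    intro t ht
    obtain ⟨g, rfl⟩ := ht
    set o : Fin 3 → Fin (k + 3) := fun i => ⟨i, by omega⟩ with ho
    have q01 : o 0 ≠ o 1 := by simp [o]
    have q12 : o 1 ≠ o 2 := by simp [o]
    have q02 : o 0 ≠ o 2 := by simp [o]
    have et : t0 k = tri (o 0) (o 1) (o 2) := rfl
    have inj := (g : Perm (Fin (k + 3))).injective
    set u := fun i => (g : Perm (Fin (k + 3))) (o i)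
    have eg : g * t0 k * g⁻¹ = tri (u 0) (u 1) (u 2) := by rw [et, tri_conj g q01 q12]
    obtain ⟨x, y, z, hxy, hyz, hxz, hx, hy, hz⟩ := exists_three ({o 0, o 1, o 2, u 0, u 1, u 2} : Finset _)
      (by
        have := Finset.card_le_six (a := o 0) (b := o 1) (c := o 2) (d := u 0) (e := u 1) (f := u 2)
        omega)
    simp only [Finset.mem_insert, Finset.mem_singleton, not_or] at hx hy hz
    rw [eg]
    conv_lhs => rw [et]
    refine (hdisj (o 0) (o 1) (o 2) x y z q01 q12 q02 hxy hyz hxz ?_).trans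
      (hdisj x y z (u 0) (u 1) (u 2) hxy hyz hxz (inj.ne q01) (inj.ne q12) (inj.ne q02) ?_)
    · simp only [List.mem_cons, List.not_mem_nil, or_false, forall_eq_or_imp, forall_eq, not_or]
      exact ⟨⟨hx.1, hx.2.1, hx.2.2.1⟩, ⟨hy.1, hy.2.1, hy.2.2.1⟩, hz.1, hz.2.1, hz.2.2.1⟩
    · simp only [List.mem_cons, List.not_mem_nil, or_false, forall_eq_or_imp, forall_eq, not_or]
      exact ⟨⟨(Ne.symm hx.2.2.2.1), (Ne.symm hy.2.2.2.1), (Ne.symm hz.2.2.2.1)⟩, ⟨(Ne.symm hx.2.2.2.2.1), (Ne.symm hy.2.2.2.2.1),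
        (Ne.symm hz.2.2.2.2.1)⟩, (Ne.symm hx.2.2.2.2.2), (Ne.symm hy.2.2.2.2.2), (Ne.symm hz.2.2.2.2.2)⟩
  exact (eq_bot_or_top (S := S) hk (fixT S (t0 k)) fun t ht v hv => by
    rw [mem_fixT.1 (hall t ht hv)]; exact hv).resolve_right (fixT_t0_ne_top hk)

/-- Elements inverting `(0 1 2)` preserve its moved and fixed spaces. -/
theorem act_mem_of_invert (hk : 6 ≤ k) {g : Alt (k + 3)} (hg : g * t0 k * g⁻¹ = (t0 k)⁻¹) :
    (∀ l, S.Is l g → ∀ v ∈ mov S (t0 k), act l v ∈ mov S (t0 k)) ∧
      (∀ l, S.Is l g → ∀ v ∈ fixT S (t0 k), act l v ∈ fixT S (t0 k)) := by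
  refine ⟨fun l hl v hv => ?_, fun l hl v hv => ?_⟩
  · have := mem_mov_conj hk isTri_t0 hl hv
    rwa [hg, mov_inv hk isTri_t0] at this
  · have := mem_fixT_conj hk isTri_t0 hl hv
    rwa [hg, fixT_inv hk isTri_t0] at this

theorem finrank_mov_add_fixT :
    Module.finrank K (mov S (t0 k)) + Module.finrank K (fixT S (t0 k)) = Module.finrank K V :=
  (act (T S (t0 k)) - 1).finrank_range_add_finrank_ker

/-- Small degrees in characteristic three. -/
theorem small_char_three (hk : 6 ≤ k) (hk8 : k ≤ 8) {p : ℕ} [CharP K p] (hp : p = 3) {W : Submodule K V}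
    (hW : InvZ S W) (hne : ¬ Trivial3 S W)
    (hg : ∀ g : Alt (k + 3), g * t0 k * g⁻¹ = (t0 k)⁻¹ → ∀ l, S.Is l g → ∀ v ∈ W, act l v ∈ W) :
    (if k = 6 then 4 else 6) ≤ Module.finrank K W := by
  have hcast : ∀ q : ℕ, ¬ p ∣ q → (q : K) ≠ 0 := fun q h e => h ((CharP.cast_eq_zero_iff K p q).1 e)
  rcases (show k = 6 ∨ k = 7 ∨ k = 8 by omega) with rfl | rfl | rfl
  · rw [if_pos rfl]
    let g : Alt 9 := ⟨swap 0 1 * swap 4 5 * swap 5 7 * swap 7 6, Perm.mem_alternatingGroup.2 (by decide)⟩
    refine cycle_bound hk hW hne (f := tri 0 1 2 * tri 2 3 4) (by decide +kernel) (q := 5) (by norm_num)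
      (hcast 5 (by subst hp; decide)) (by decide +kernel) (g := g) (hg g (by decide +kernel)) (i := 2) (i' := 3) (j := 1)
      (by norm_num) ?_ (by norm_num) (by norm_num) (by decide)
    rw [map_mul, viaA_tri _ (by decide) (by decide) (by decide), viaA_tri _ (by decide) (by decide) (by decide)]
    decide +kernel
  · rw [if_neg (by decide)]
    let g : Alt 10 := ⟨swap 0 1 * swap 4 6 * swap 6 5 * swap 5 9 * swap 9 7 * swap 7 8,
      Perm.mem_alternatingGroup.2 (by decide)⟩
    refine cycle_bound hk hW hne (f := tri 0 1 2 * tri 2 3 4 * tri 4 5 6) (by decide +kernel) (q := 7)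
      (by norm_num) (hcast 7 (by subst hp; decide)) (by decide +kernel) (g := g) (hg g (by decide +kernel)) (i := 3)
      (i' := 5) (j := 4) (by norm_num) ?_ (by norm_num) (by norm_num) (by decide)
    rw [map_mul, map_mul, viaA_tri _ (by decide) (by decide) (by decide), viaA_tri _ (by decide) (by decide)
      (by decide), viaA_tri _ (by decide) (by decide) (by decide)]
    decide +kernel
  · rw [if_neg (by decide)]
    let g : Alt 11 := ⟨swap 0 1 * swap 4 6 * swap 6 5 * swap 5 9 * swap 9 7 * swap 7 8,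
      Perm.mem_alternatingGroup.2 (by decide)⟩
    refine cycle_bound hk hW hne (f := tri 0 1 2 * tri 2 3 4 * tri 4 5 6) (by decide +kernel) (q := 7)
      (by norm_num) (hcast 7 (by subst hp; decide)) (by decide +kernel) (g := g) (hg g (by decide +kernel)) (i := 3)
      (i' := 5) (j := 4) (by norm_num) ?_ (by norm_num) (by norm_num) (by decide)
    rw [map_mul, map_mul, viaA_tri _ (by decide) (by decide) (by decide), viaA_tri _ (by decide) (by decide)
      (by decide), viaA_tri _ (by decide) (by decide) (by decide)]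
    decide +kernel

/-- The bound, given the one for the stabiliser of three points. -/
theorem setup_bound {p : ℕ} [Fact p.Prime] [CharP K p] (hk : 6 ≤ k)
    (IH : 9 ≤ k → ∀ W : Submodule K V, W ≠ ⊤ → InvZ S W → ¬ Trivial3 S W →
      k - 1 - (if p ∣ k then 1 else 0) ≤ Module.finrank K W) :
    (k + 3) - 1 - (if p ∣ k + 3 then 1 else 0) ≤ Module.finrank K V := by
  by_cases hC : Trivial3 S (mov S (t0 k))
  · exact bound_of_trivial3 hk hC (mov_t0_ne_bot hk)
  by_cases hp : p = 3
  · -- characteristic three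
    subst hp
    have h30 : (3 : K) = 0 := by exact_mod_cast CharP.cast_eq_zero K 3
    have hmovtop : mov S (t0 k) ≠ ⊤ := by
      intro h
      have h1 : ∀ v : V, act (T S (t0 k)) (act (T S (t0 k)) v) + act (T S (t0 k)) v + v = 0 := fun v =>
        mov_quadratic hk (h ▸ Submodule.mem_top)
      obtain ⟨v, hv⟩ := exists_ne (0 : V)
      let X : Module.End K V := act (T S (t0 k)) - 1
      have hsurj : Function.Surjective X := LinearMap.range_eq_top.1 h
      have hinj : Function.Injective X := LinearMap.injective_iff_surjective.2 hsurj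
      refine hv (hinj (hinj ?_))
      simp only [X, map_zero, LinearMap.sub_apply, Module.End.one_apply, map_sub]
      have e3 : (3 : K) • act (T S (t0 k)) v = 0 := by rw [h30, zero_smul]
      linear_combination (norm := module) h1 v - e3
    have hfix : ¬ Trivial3 S (fixT S (t0 k)) := by
      intro h
      have h' : fixT S (t0 k) = ⊥ := fixT_eq_bot hk fun v hv => by
        rw [mem_fixT]
        have hv' : v ∈ fixT S (t0 k) := by rwa [← t0_eq hk]
        have := h ⟨0, by omega⟩ ⟨1, by omega⟩ ⟨2, by omega⟩ (by simp) (by simp) (by simp) v hv'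
        rw [viaA_tri _ (by simp) (by simp) (by simp)] at this
        show act (T S (viaA (q9 hk) (tri 3 4 5))) v = v
        rw [viaA_tri _ (by decide) (by decide) (by decide)]
        exact this
      have := finrank_mov_add_fixT (S := S)
      rw [h', finrank_bot, add_zero] at this
      exact hmovtop (Submodule.eq_top_of_finrank_eq this)
    have hsum := finrank_mov_add_fixT (S := S)
    rcases Nat.lt_or_ge k 9 with h9 | h9
    · have h1 := small_char_three hk (by omega) rfl (invZ_mov hk) hC
        (fun g hg => (act_mem_of_invert hk hg).1) (p := 3)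
      have h2 := small_char_three hk (by omega) rfl (invZ_fixT hk) hfix
        (fun g hg => (act_mem_of_invert hk hg).2) (p := 3)
      split_ifs at h1 h2 ⊢ <;> omega
    · have h1 := IH h9 _ hmovtop (invZ_mov hk) hC
      have h2 := IH h9 _ (fixT_t0_ne_top hk) (invZ_fixT hk) hfix
      split_ifs at h1 h2 ⊢ <;> omega
  · have hprime : p.Prime := Fact.out
    have h3 : (3 : K) ≠ 0 := fun h => hp ((Nat.prime_dvd_prime_iff_eq hprime Nat.prime_three).1
      ((CharP.cast_eq_zero_iff K p 3).1 (by exact_mod_cast h)))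
    obtain ⟨ω, hω⟩ : ∃ ω : K, ω * ω + ω + 1 = 0 := by
      obtain ⟨z, hz⟩ := IsAlgClosed.exists_root
        (Polynomial.C (1 : K) * Polynomial.X ^ 2 + Polynomial.C 1 * Polynomial.X + Polynomial.C 1)
        (by rw [Polynomial.degree_quadratic one_ne_zero]; decide)
      refine ⟨z, ?_⟩
      simp only [Polynomial.IsRoot, Polynomial.eval_add, Polynomial.eval_mul, Polynomial.eval_C,
        Polynomial.eval_pow, Polynomial.eval_X] at hz
      linear_combination hz
    have hω0 : ω ≠ 0 := by rintro rfl; simp at hω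
    obtain ⟨n1, n2⟩ := not_trivial3_eigT hk hω h3 hC
    rcases Nat.lt_or_ge k 9 with h9 | h9
    · -- weights
      obtain ⟨v, hv, hv'⟩ : ∃ v, act (T S (viaA (q9 hk) (t9 0))) v = ω • v ∧
          act (T S (viaA (q9 hk) (t9 1))) v ≠ v := by
        simp only [Trivial3, not_forall] at n1
        obtain ⟨a, b, c, hab, hbc, hac, v, hv, hne⟩ := n1
        obtain ⟨g, hg⟩ := exists_conj_tri (n := k) (by omega) hab hbc hac
          (a' := (⟨0, by omega⟩ : Fin k)) (b' := (⟨1, by omega⟩ : Fin k)) (c' := (⟨2, by omega⟩ : Fin k)) (by simp) (by simp) (by simp)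
        obtain ⟨l, hl⟩ := S.exists_is (viaA (emb3 k) g)
        refine ⟨act l v, ?_, ?_⟩
        · show act (T S (viaA (q9 hk) (tri 0 1 2))) (act l v) = _
          rw [t0_eq]
          exact mem_eigT.1 (invZ_eigT hk ω g l hl v hv)
        · intro h
          have hc := T_conj hk (isTri_viaA hk hab hbc hac) hl (S := S)
          rw [← map_inv, ← map_mul, ← map_mul, hg, viaA_tri (a := (⟨0, by omega⟩ : Fin k)) (b := (⟨1, by omega⟩ : Fin k))
            (c := (⟨2, by omega⟩ : Fin k)) _ (by simp) (by simp) (by simp)] at hc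
          change act (T S (viaA (q9 hk) (tri 3 4 5))) (act l v) = act l v at h
          rw [viaA_tri _ (by decide) (by decide) (by decide)] at h
          change act (T S (tri (emb3 k ⟨0, by omega⟩) (emb3 k ⟨1, by omega⟩) (emb3 k ⟨2, by omega⟩))) (act l v) = act l v at h
          rw [← hc, mul_apply', mul_apply', ← mul_apply' l⁻¹, inv_mul_cancel] at h
          have h6 := congrArg (act l⁻¹) h
          rw [← mul_apply' l⁻¹, ← mul_apply' l⁻¹, inv_mul_cancel] at h6
          exact hne h6
      obtain ⟨h8, h12⟩ := weights hk h3 hω ⟨v, hv, hv'⟩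
      by_contra hlt
      rw [not_le] at hlt
      have hlt12 : Module.finrank K V < 12 := by split_ifs at hlt <;> omega
      have hbot := fixT_eq_bot hk (h12 hlt12).le
      have hquad : ∀ t : Alt (k + 3), IsTri t → ∀ w,
          act (T S t) (act (T S t) w) + act (T S t) w + w = 0 := by
        intro t ht w
        have hfix : fixT S t = ⊥ := by
          obtain ⟨g, rfl⟩ := ht
          refine (Submodule.eq_bot_iff _).2 fun x hx => ?_
          obtain ⟨l, hl⟩ := S.exists_is g
          have h1 := mem_fixT_conj hk (isTri_t0.conj g) hl.inv hx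
          rw [show g⁻¹ * (g * t0 k * g⁻¹) * g⁻¹⁻¹ = t0 k by group, hbot, Submodule.mem_bot] at h1
          have := congrArg (act l) h1
          rw [← mul_apply', mul_inv_cancel, map_zero] at this
          exact this
        refine (Submodule.mem_bot K).1 (hfix ▸ mem_fixT.2 ?_)
        have h := congrArg (fun f : (Module.End K V)ˣ => act f w) (T_pow_three (S := S) hk ht)
        simp only [act, pow_succ, pow_zero, one_mul, Units.val_mul, Units.val_one, Module.End.mul_apply,
          Module.End.one_apply] at h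
        simp only [act, map_add, h]
        abel
      rcases (show k = 6 ∨ k = 7 ∨ k = 8 by omega) with rfl | rfl | rfl
      · split_ifs at hlt <;> omega
      · by_cases hd : p ∣ 10
        · simp [hd] at hlt; omega
        · have e : ∀ q : ℕ, q ∣ 10 → (q : K) ≠ 0 := fun q h e =>
            hd (((CharP.cast_eq_zero_iff K p q).1 e).trans h)
          have := quadratic_bound hk hquad h3 (Or.inl ⟨rfl, by exact_mod_cast e 2 (by norm_num),
            by exact_mod_cast e 5 (by norm_num)⟩)
          omega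
      · have := quadratic_bound hk hquad h3 (Or.inr rfl)
        omega
    · have h1 := IH h9 _ (eigT_ne_top hk hω0) (invZ_eigT hk _) n1
      have h2 := IH h9 _ (eigT_ne_top hk (mul_ne_zero hω0 hω0)) (invZ_eigT hk _) n2
      have hinf : eigT S ω ⊓ eigT S (ω * ω) = ⊥ := (Submodule.eq_bot_iff _).2 fun v hv => by
        obtain ⟨a, b⟩ := Submodule.mem_inf.1 hv
        have hzero : (ω - ω * ω) • v = 0 := by rw [sub_smul, ← mem_eigT.1 a, ← mem_eigT.1 b, sub_self]
        refine (smul_eq_zero.1 hzero).resolve_left fun h => mul_ne_zero h3 hω0 ?_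
        linear_combination ω * (hω + h) + 2 * h
      have hs := Submodule.finrank_sup_add_finrank_inf_eq (eigT S ω) (eigT S (ω * ω))
      rw [hinf, finrank_bot, add_zero] at hs
      have := Submodule.finrank_le (eigT S ω ⊔ eigT S (ω * ω))
      split_ifs at h1 h2 ⊢ <;> omega

end CfsgLib.AltDegree
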