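import Mathlib

/-!
Operators satisfying Clifford relations need a space of large dimension.
-/

set_option autoImplicit false

namespace CfsgLib.AltDegree

open Module

variable {K : Type*} [Field K] [IsAlgClosed K]

theorem two_pow_le_aux (N : ℕ) : ∀ (V W : Type _) [AddCommGroup V] [Module K V] [FiniteDimensional K V]
    [Nontrivial V] [AddCommGroup W] [Module K W] [FiniteDimensional K W] (L : W →ₗ[K] Module.End K V)
    (q : W → K) (B : W →ₗ[K] W →ₗ[K] K),
    (∀ x, L x * L x = q x • 1) → (∀ x y, L x * L y + L y * L x = B x y • 1) →
    (∀ x, (∀ y, B x y = 0) → x = 0) → N ≤ finrank K W → 2 ^ (N / 2) ≤ finrank K V := by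
  induction N using Nat.strong_induction_on with
  | _ N ih =>
    intro V W _ _ _ _ _ _ _ L q B hq hB hnd hN
    rcases Nat.lt_or_ge N 2 with h2 | h2
    · rw [Nat.div_eq_of_lt h2, pow_zero]
      exact Module.finrank_pos
    have hinj : ∀ a b : K, a • (1 : Module.End K V) = b • 1 → a = b := fun a b h =>
      smul_left_injective K (one_ne_zero' (Module.End K V)) h
    have hqadd : ∀ (x y : W) (t : K), q (x + t • y) = q x + t * B x y + t * t * q y := fun x y t => by
      refine hinj _ _ ?_
      have e : L (x + t • y) * L (x + t • y) =
          L x * L x + t • (L x * L y + L y * L x) + (t * t) • (L y * L y) := by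
        simp only [map_add, map_smul, add_mul, mul_add, smul_mul_assoc, mul_smul_comm, smul_smul, smul_add]
        abel
      rw [← hq, e, hq, hB, hq, add_smul, add_smul, smul_smul, smul_smul]
    have hdiag : ∀ x, B x x = 2 * q x := fun x => hinj _ _ (by rw [← hB, hq, two_mul, add_smul])
    have hsym : ∀ x y, B x y = B y x := fun x y => hinj _ _ (by rw [← hB, ← hB, add_comm])
    obtain ⟨f, hf0, hff⟩ : ∃ f : W, f ≠ 0 ∧ q f = 0 := by
      let b := Module.finBasis K W
      let x := b ⟨0, by omega⟩
      let y := b ⟨1, by omega⟩
      by_cases hy : q y = 0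
      · exact ⟨y, b.ne_zero _, hy⟩
      · obtain ⟨t, ht⟩ := IsAlgClosed.exists_root
          (Polynomial.C (q y) * Polynomial.X ^ 2 + Polynomial.C (B x y) * Polynomial.X + Polynomial.C (q x))
          (by rw [Polynomial.degree_quadratic hy]; decide)
        refine ⟨x + t • y, fun h => ?_, ?_⟩
        · have h' := congrArg (fun w => b.repr w ⟨0, by omega⟩) h
          simp [x, y] at h'
        · simp only [Polynomial.IsRoot, Polynomial.eval_add, Polynomial.eval_mul, Polynomial.eval_C,
            Polynomial.eval_pow, Polynomial.eval_X] at ht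
          rw [hqadd]
          linear_combination ht
    obtain ⟨g₀, hg₀⟩ : ∃ g, B f g ≠ 0 := not_forall.1 fun h => hf0 (hnd f h)
    set g₁ := (B f g₀)⁻¹ • g₀ with hg₁def
    have hg₁ : B f g₁ = 1 := by rw [hg₁def, map_smul, smul_eq_mul, inv_mul_cancel₀ hg₀]
    set g := g₁ + (-q g₁) • f with hgdef
    have hBff : B f f = 0 := by rw [hdiag, hff, mul_zero]
    have hfg : B f g = 1 := by rw [hgdef, map_add, hg₁, map_smul, hBff, smul_zero, add_zero]
    have hgg : q g = 0 := by rw [hgdef, hqadd, hsym, hg₁, hff]; ring
    have hBgg : B g g = 0 := by rw [hdiag, hgg, mul_zero]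
    have hFF : L f * L f = 0 := by rw [hq, hff, zero_smul]
    have hFG : L f * L g + L g * L f = 1 := by rw [hB, hfg, one_smul]
    set F := L f with hF
    have hker : LinearMap.range F = LinearMap.ker F := by
      refine le_antisymm ?_ fun v hv => ?_
      · rintro _ ⟨v, rfl⟩
        exact LinearMap.congr_fun hFF v
      · refine ⟨L g v, ?_⟩
        have := LinearMap.congr_fun hFG v
        rwa [LinearMap.add_apply, Module.End.mul_apply, Module.End.mul_apply, LinearMap.mem_ker.1 hv,
          map_zero, add_zero] at this
    have hdim : finrank K V = 2 * finrank K (LinearMap.ker F) := by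
      rw [← F.finrank_range_add_finrank_ker, hker, two_mul]
    have : Nontrivial (LinearMap.ker F) := by
      apply Module.nontrivial_of_finrank_pos (R := K)
      have := Module.finrank_pos (R := K) (M := V)
      omega
    let W' : Submodule K W := LinearMap.ker ((B f).prod (B g))
    have hW' : ∀ z ∈ W', B f z = 0 ∧ B g z = 0 := fun z hz => by
      simpa [W', LinearMap.mem_ker, Prod.ext_iff] using hz
    have hpres : ∀ z : W', ∀ v ∈ LinearMap.ker F, L z v ∈ LinearMap.ker F := fun z v hv => by
      have h := LinearMap.congr_fun (hB f z) v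
      rw [(hW' z z.2).1, zero_smul, LinearMap.add_apply, Module.End.mul_apply, Module.End.mul_apply,
        ← hF, LinearMap.mem_ker.1 hv, map_zero, add_zero, LinearMap.zero_apply] at h
      exact h
    let L' : W' →ₗ[K] Module.End K (LinearMap.ker F) :=
      { toFun := fun z => (L z).restrict (hpres z)
        map_add' := fun z z' => by ext v; simp
        map_smul' := fun c z => by ext v; simp }
    have hrank : N - 2 ≤ finrank K W' := by
      have h1 := ((B f).prod (B g)).finrank_range_add_finrank_ker
      have h3 := Submodule.finrank_le (LinearMap.range ((B f).prod (B g)))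
      rw [Module.finrank_prod, Module.finrank_self] at h3
      have h4 : finrank K W' = finrank K (LinearMap.ker ((B f).prod (B g))) := rfl
      omega
    have key := ih (N - 2) (by omega) (LinearMap.ker F) W' L' (fun z => q z)
      (B.compl₁₂ W'.subtype W'.subtype)
      (fun z => by ext v; exact LinearMap.congr_fun (hq z) v)
      (fun z z' => by ext v; exact LinearMap.congr_fun (hB z z') v)
      (fun z hz => Subtype.ext (hnd z fun y => by
        have hy : y - B g y • f - B f y • g ∈ W' := by
          simp [W', LinearMap.mem_ker, hBff, hfg, hBgg, hsym g f]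
        have := hz ⟨_, hy⟩
        simp only [LinearMap.compl₁₂_apply, Submodule.subtype_apply, map_sub, map_smul, hsym z.1 f,
          hsym z.1 g, (hW' z z.2).1, (hW' z z.2).2, smul_zero, sub_zero] at this
        exact this)) hrank
    rw [hdim, show N / 2 = (N - 2) / 2 + 1 by omega, pow_succ']
    exact Nat.mul_le_mul_left 2 key

end CfsgLib.AltDegree
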