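import Cfsg.Agent.Lib.AltDegree.Common

/-!
A prime cycle of the stabiliser has all non-trivial eigenvalues on invariant subspaces.
-/

set_option autoImplicit false
set_option linter.unusedSectionVars false

namespace CfsgLib.AltDegree

open Equiv

variable {K : Type*} [Field K] [IsAlgClosed K] {V : Type*} [AddCommGroup V] [Module K V] [Nontrivial V]
  [FiniteDimensional K V] {k : ℕ} {S : Setup K V (k + 3)}

/-- If `g` powers a prime cycle `f` of the stabiliser transitively, an invariant subspace where the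
stabiliser is non-trivial has dimension at least `q - 1`. -/
theorem cycle_bound (hk : 6 ≤ k) {W : Submodule K V} (hW : InvZ S W) (hne : ¬ Trivial3 S W)
    {f : Alt k} (hf1 : f ≠ 1) {q : ℕ} (hq : q.Prime) (hqK : (q : K) ≠ 0) (hfq : f ^ q = 1)
    {g : Alt (k + 3)} (hgW : ∀ l, S.Is l g → ∀ v ∈ W, act l v ∈ W) {i i' j : ℕ} (hi : 1 ≤ i)
    (hconj : g * viaA (emb3 k) f * g⁻¹ = viaA (emb3 k) f ^ i) (hii' : i * i' % q = 1)
    (hj : (i - 1) * j % q = 1) (horb : Function.Injective fun t : Fin (q - 1) => i' ^ (t : ℕ) % q) :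
    q - 1 ≤ Module.finrank K W := by
  set c := viaA (emb3 k) f with hc
  obtain ⟨l₀, hl₀⟩ := S.exists_is c
  obtain ⟨d, hd⟩ := Setup.Is.of_one (show S.Is (l₀ ^ q) 1 by simpa [hc, ← map_pow, hfq] using hl₀.pow q)
  obtain ⟨e, he⟩ := IsAlgClosed.exists_pow_nat_eq (d : K) hq.pos
  have he0 : e ≠ 0 := fun h => d.ne_zero (by rw [← he, h, zero_pow hq.ne_zero])
  set F₀ := sc K V (Units.mk0 e he0)⁻¹ * l₀ with hF₀
  have hF₀t : S.Is F₀ c := hl₀.smul _
  have hF₀q : F₀ ^ q = 1 := by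
    rw [hF₀, (sc_comm _ _).mul_pow, hd, ← map_pow, ← map_mul, inv_pow,
      show Units.mk0 e he0 ^ q = d from Units.ext (by simpa using he), inv_mul_cancel, map_one]
  obtain ⟨m, hm⟩ := S.exists_is g
  have h' : S.Is (m * F₀ * m⁻¹) (c ^ i) := hconj ▸ (hm.mul hF₀t).mul hm.inv
  obtain ⟨ζ, hζ⟩ := (hF₀t.pow i).exists_sc h'
  have hζq : ζ ^ q = 1 := by
    have e1 : (m * F₀ * m⁻¹) ^ q = 1 := by rw [conj_pow, hF₀q, mul_one, mul_inv_cancel]
    rw [hζ, (sc_comm _ _).mul_pow, ← pow_mul, mul_comm i, pow_mul, hF₀q, one_pow, mul_one, ← map_pow] at e1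
    exact sc_injective (by rw [e1, map_one])
  set F := sc K V (ζ ^ j) * F₀ with hF
  have hFt : S.Is F c := hF₀t.smul _
  have hFq : F ^ q = 1 := by
    rw [hF, (sc_comm _ _).mul_pow, hF₀q, mul_one, ← map_pow, pow_right_comm, hζq, one_pow, map_one]
  have hFi : m * F * m⁻¹ = F ^ i := by
    calc m * F * m⁻¹ = sc K V (ζ ^ j) * (m * F₀ * m⁻¹) := by
          rw [hF, ← mul_assoc, ← (sc_comm (ζ ^ j) m).eq]; simp only [mul_assoc]
      _ = sc K V (ζ ^ (j * i)) * F₀ ^ i := by
          rw [hζ, ← mul_assoc, ← map_mul, ← pow_succ]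
          congr 2
          rw [pow_eq_pow_mod (j + 1) hζq, pow_eq_pow_mod (j * i) hζq]
          congr 1
          obtain ⟨i₀, rfl⟩ : ∃ i₀, i = i₀ + 1 := ⟨i - 1, by omega⟩
          rw [Nat.add_sub_cancel] at hj
          rw [mul_add, mul_one, mul_comm j i₀, Nat.add_mod, Nat.add_mod (i₀ * j), hj, add_comm]
          rw [Nat.mod_eq_of_lt hq.one_lt]
      _ = F ^ i := by rw [hF, (sc_comm (ζ ^ j) F₀).mul_pow, ← map_pow, ← pow_mul]
  have hFW : ∀ v ∈ W, act F v ∈ W := hW f F hFt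
  -- a non-trivial eigenvalue
  obtain ⟨v, hvW, hv⟩ : ∃ v ∈ W, act F v ≠ v := by
    by_contra hall
    push Not at hall
    exact hne (trivial3_of_scalar hk hW hf1 ⟨F, hFt, 1, fun v hv => by rw [hall v hv, one_smul]⟩)
  set φ : W →ₗ[K] W := (act F).restrict hFW
  set W₁ := LinearMap.range (φ - 1)
  have hW₁ : ∀ w ∈ W₁, φ w ∈ W₁ := by
    rintro _ ⟨u, rfl⟩
    exact ⟨φ u, by simp [map_sub]⟩
  have : Nontrivial W₁ := Submodule.nontrivial_iff_ne_bot.2 fun h => hv (by
    have h1 := LinearMap.congr_fun (LinearMap.range_eq_bot.1 h) ⟨v, hvW⟩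
    rw [LinearMap.sub_apply, LinearMap.zero_apply, sub_eq_zero] at h1
    exact congrArg Subtype.val h1)
  obtain ⟨z, hz⟩ := Module.End.exists_eigenvalue (φ.restrict hW₁)
  obtain ⟨⟨w, hw⟩, hwz⟩ := hz.exists_hasEigenvector
  obtain ⟨u, rfl⟩ := hw
  have hwv : act F ((φ - 1) u : W).1 = z • ((φ - 1) u : W).1 := congrArg (fun x : W₁ => (x : W).1) hwz.apply_eq_smul
  have hw0 : ((φ - 1) u : W).1 ≠ 0 := fun h => hwz.2 (Subtype.ext (Subtype.ext h))
  have hpow : ∀ (n : ℕ) (x : V) (y : K), act F x = y • x → act (F ^ n) x = y ^ n • x := by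
    intro n x y h
    induction n with
    | zero => simp [act]
    | succ n ih => rw [pow_succ, mul_apply', h, map_smul, ih, smul_smul, pow_succ']
  have hzq : z ^ q = 1 := by
    have h1 := hpow q _ z hwv
    rw [hFq] at h1
    have h2 : ((1 : K) - z ^ q) • ((φ - 1) u : W).1 = 0 := by
      rw [sub_smul, one_smul, ← h1]; simp [act]
    exact (sub_eq_zero.1 ((smul_eq_zero.1 h2).resolve_right hw0)).symm
  have hz1 : z ≠ 1 := by
    rintro rfl
    have hsum : ∀ n, ∀ x : V, act (F ^ n) x - x = ∑ b ∈ Finset.range n, act (F ^ b) (act F x - x) := by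
      intro n x
      induction n with
      | zero => simp [act]
      | succ n ih => rw [Finset.sum_range_succ, ← ih, map_sub, ← mul_apply', ← pow_succ]; abel
    have h1 := hsum q u.1
    rw [hFq] at h1
    have h2 : ∀ b ∈ Finset.range q, act (F ^ b) (act F u.1 - u.1) = act F u.1 - u.1 := fun b _ => by
      have := hpow b _ 1 hwv
      rwa [one_pow, one_smul] at this
    rw [Finset.sum_congr rfl h2, Finset.sum_const, Finset.card_range, ← Nat.cast_smul_eq_nsmul K] at h1
    simp only [act, Units.val_one, Module.End.one_apply, sub_self] at h1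
    exact hw0 ((smul_eq_zero.1 h1.symm).resolve_left hqK)
  -- the orbit of eigenvectors
  set w₀ := ((φ - 1) u : W).1
  have hw₀W : w₀ ∈ W := ((φ - 1) u : W).2
  have hFm : F * m = m * F ^ i' := by
    have h1 : (m * F * m⁻¹) ^ i' = F := by
      rw [hFi, ← pow_mul, pow_eq_pow_mod _ hFq, hii', pow_one]
    rw [conj_pow] at h1
    nth_rewrite 1 [← h1]
    group
  have horbit : ∀ t : ℕ, ∃ y ∈ W, y ≠ 0 ∧ act F y = z ^ (i' ^ t) • y := by
    intro t
    induction t with
    | zero => exact ⟨w₀, hw₀W, hw0, by rw [pow_zero, pow_one]; exact hwv⟩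
    | succ t ih =>
      obtain ⟨y, hy, hy0, hyz⟩ := ih
      refine ⟨act m y, hgW m hm y hy, fun h => hy0 ?_, ?_⟩
      · have := congrArg (act m⁻¹) h
        rwa [map_zero, ← mul_apply', inv_mul_cancel] at this
      · rw [← mul_apply', hFm, mul_apply', hpow i' y _ hyz, map_smul, ← pow_mul, pow_succ]
  choose y hyW hy0 hyz using horbit
  have hzord : orderOf z = q := orderOf_eq_prime hzq hz1 (hp := ⟨hq⟩)
  have hli := Module.End.eigenvectors_linearIndependent' φ (fun t : Fin (q - 1) => z ^ (i' ^ (t : ℕ)))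
    (fun a b hab => horb (by
      have h : z ^ (i' ^ (a : ℕ) % q) = z ^ (i' ^ (b : ℕ) % q) := by
        rw [← pow_eq_pow_mod _ hzq, ← pow_eq_pow_mod _ hzq]; exact hab
      exact pow_injOn_Iio_orderOf (by rw [hzord]; exact Nat.mod_lt _ hq.pos)
        (by rw [hzord]; exact Nat.mod_lt _ hq.pos) h))
    (fun t => (⟨y t, hyW t⟩ : W))
    (fun t => ⟨Module.End.mem_eigenspace_iff.2 (Subtype.ext (hyz t)), fun h => hy0 t (congrArg Subtype.val h)⟩)
  simpa using hli.fintype_card_le_finrank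

end CfsgLib.AltDegree
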