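import Cfsg.Agent.Lib.AltDegree.Sub

/-!
Generation of the alternating group by `(p₀ p₁ j)`; invariant subspaces of sum-zero functions.
-/

set_option autoImplicit false

namespace CfsgLib.AltDegree

open Equiv

variable {n : ℕ}

/-- Two overlapping three-cycles multiply to a double transposition. -/
theorem tri_mul_tri_apply {a b c d : Fin n} (hab : a ≠ b) (hbc : b ≠ c) (hac : a ≠ c) (hbd : b ≠ d)
    (hcd : c ≠ d) (had : a ≠ d) :
    ((tri a b c * tri b c d : Alt n) : Perm (Fin n)) = swap a b * swap c d := by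
  refine Equiv.ext fun x => ?_
  show (tri a b c : Perm (Fin n)) ((tri b c d : Perm (Fin n)) x) = swap a b (swap c d x)
  by_cases ha : x = a
  · subst ha
    rw [tri_other hab hac had, tri_first hab hbc hac, swap_apply_of_ne_of_ne hac had, swap_apply_left]
  by_cases hb : x = b
  · subst hb
    rw [tri_first hbc hcd hbd, tri_third hab hbc, swap_apply_of_ne_of_ne hbc hbd, swap_apply_right]
  by_cases hc : x = c
  · subst hc
    rw [tri_second hbc hcd hbd, tri_other had.symm hbd.symm hcd.symm, swap_apply_left,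
      swap_apply_of_ne_of_ne had.symm hbd.symm]
  by_cases hd : x = d
  · subst hd
    rw [tri_third hbc hcd, tri_second hab hbc hac, swap_apply_right, swap_apply_of_ne_of_ne hac.symm hbc.symm]
  rw [tri_other hb hc hd, tri_other ha hb hc, swap_apply_of_ne_of_ne hc hd, swap_apply_of_ne_of_ne ha hb]

/-- `(1 a b) (1 b c) = (a b c)`. -/
theorem tri_eq_mul {o a b c : Fin n} (hoa : o ≠ a) (hob : o ≠ b) (hoc : o ≠ c) (hab : a ≠ b) (hbc : b ≠ c)
    (hac : a ≠ c) : tri a b c = tri o a b * tri o b c := by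
  refine Subtype.ext (Equiv.ext fun x => ?_)
  show (tri a b c : Perm (Fin n)) x = (tri o a b : Perm (Fin n)) ((tri o b c : Perm (Fin n)) x)
  by_cases ha : x = a
  · subst ha
    rw [tri_first hab hbc hac, tri_other hoa.symm hab hac, tri_second hoa hab hob]
  by_cases hb : x = b
  · subst hb
    rw [tri_second hab hbc hac, tri_second hob hbc hoc, tri_other hoc.symm hac.symm hbc.symm]
  by_cases hc : x = c
  · subst hc
    rw [tri_third hab hbc, tri_third hob hbc, tri_first hoa hab hob]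
  by_cases ho : x = o
  · subst ho
    rw [tri_other ha hb hc, tri_first hob hbc hoc, tri_third hoa hab]
  rw [tri_other ha hb hc, tri_other ho hb hc, tri_other ho ha hb]

theorem tri_mul_self {a b c : Fin n} (hab : a ≠ b) (hbc : b ≠ c) (hac : a ≠ c) :
    tri a b c * tri a b c = (tri a b c)⁻¹ := by
  refine eq_inv_of_mul_eq_one_left ?_
  refine Subtype.ext ?_
  have := pow_orderOf_eq_one (tri a b c : Perm (Fin n))
  rw [(isThreeCycle_tri hab hbc hac).orderOf, pow_succ, pow_two] at this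
  push_cast
  exact this

/-- The three-cycles `(o₀ o₁ j)` generate. -/
theorem induction_x {o₀ o₁ : Fin n} (h01 : o₀ ≠ o₁) {p : Alt n → Prop}
    (hmul : ∀ x y, p x → p y → p (x * y)) (hx : ∀ j, j ≠ o₀ → j ≠ o₁ → p (tri o₀ o₁ j))
    (h1 : p 1) (g : Alt n) : p g := by
  have hinv : ∀ j, j ≠ o₀ → j ≠ o₁ → p (tri o₀ o₁ j)⁻¹ := fun j h0 h1' => by
    rw [← tri_mul_self h01 h1'.symm h0.symm]
    exact hmul _ _ (hx j h0 h1') (hx j h0 h1')
  -- `(o₁ b c)`
  have hone : ∀ b c, b ≠ c → b ≠ o₀ → b ≠ o₁ → c ≠ o₀ → c ≠ o₁ → p (tri o₁ b c) := by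
    intro b c hbc hb0 hb1 hc0 hc1
    have e := tri_conj (tri o₀ o₁ b) h01 hc1.symm
    rw [tri_first h01 hb1.symm hb0.symm, tri_second h01 hb1.symm hb0.symm, tri_other hc0 hc1 hbc.symm] at e
    rw [← e]
    exact hmul _ _ (hmul _ _ (hx b hb0 hb1) (hx c hc0 hc1)) (hinv b hb0 hb1)
  have hzero : ∀ b c, b ≠ c → b ≠ o₀ → b ≠ o₁ → c ≠ o₀ → c ≠ o₁ → p (tri o₀ c b) := by
    intro b c hbc hb0 hb1 hc0 hc1
    have e := tri_conj (tri o₀ o₁ b)⁻¹ h01 hc1.symm
    rw [tri_inv h01 hb1.symm, tri_third hb1 h01.symm, tri_second hb1 h01.symm hb0,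
      tri_other hbc.symm hc1 hc0, tri_rotate hb0 hc0.symm hbc] at e
    rw [← e, ← tri_inv h01 hb1.symm, inv_inv]
    exact hmul _ _ (hmul _ _ (hinv b hb0 hb1) (hx c hc0 hc1)) (hx b hb0 hb1)
  refine induction_tri h1 hmul (fun a b c hab hbc hac => ?_) g
  -- rotate so that the special points come first
  have key : ∀ a b c : Fin n, a ≠ b → b ≠ c → a ≠ c → c ≠ o₀ → b ≠ o₀ → p (tri a b c) := by
    intro a b c hab hbc hac hc0 hb0
    by_cases ha0 : a = o₀
    · subst ha0
      by_cases hb1 : b = o₁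
      · subst hb1; exact hx c hc0 hbc.symm
      by_cases hc1 : c = o₁
      · subst hc1
        rw [show tri a b c = (tri a c b)⁻¹ by
          rw [tri_inv hac hbc.symm, tri_rotate hbc hac.symm hab.symm, tri_rotate hac.symm hab hbc.symm]]
        exact hinv b hb0 hbc
      exact hzero c b hbc.symm hc0 hc1 hb0 hb1
    · by_cases ha1 : a = o₁
      · subst ha1; exact hone b c hbc hb0 hab.symm hc0 hac.symm
      by_cases hb1 : b = o₁
      · subst hb1
        rw [tri_rotate hab hbc hac]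
        exact hone c a hac.symm hc0 hbc.symm ha0 hab
      by_cases hc1 : c = o₁
      · subst hc1
        rw [← tri_rotate hac.symm hab hbc.symm]
        exact hone a b hab ha0 hac hb0 hbc
      rw [tri_eq_mul (o := o₁) (Ne.symm ha1) (Ne.symm hb1) (Ne.symm hc1) hab hbc hac]
      exact hmul _ _ (hone a b hab ha0 ha1 hb0 hb1) (hone b c hbc hb0 hb1 hc0 hc1)
  by_cases hc0 : c = o₀
  · subst hc0
    rw [← tri_rotate hac.symm hab hbc.symm]
    exact key c a b hac.symm hab hbc.symm hbc hac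
  by_cases hb0 : b = o₀
  · subst hb0
    rw [tri_rotate hab hbc hac]
    exact key b c a hbc hac.symm hab.symm hab hc0
  exact key a b c hab hbc hac hc0 hb0

theorem exists_notMem {n : ℕ} {s : Finset (Fin n)} (h : s.card < n) : ∃ x, x ∉ s := by
  by_contra hc
  push Not at hc
  rw [Finset.eq_univ_iff_forall.2 hc, Finset.card_univ, Fintype.card_fin] at h
  exact lt_irrefl _ h

/-- An invariant subspace containing a non-constant function contains `δ₀ - δ₁`. -/
theorem single_sub_mem {K : Type*} [Field K] (hn : 9 ≤ n) (W : Submodule K (Fin n → K))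
    (hW : ∀ g : Alt n, ∀ a ∈ W, a ∘ ((g : Perm (Fin n)) : Fin n → Fin n) ∈ W) {a : Fin n → K} (ha : a ∈ W)
    {s t : Fin n} (hst : a s ≠ a t) (x y : Fin n) (hxy : x ≠ y) :
    (Pi.single x 1 - Pi.single y 1 : Fin n → K) ∈ W := by
  have hne : s ≠ t := fun h => hst (h ▸ rfl)
  obtain ⟨u, hu⟩ : ∃ u, u ∉ ({s, t} : Finset (Fin n)) :=
    exists_notMem (by exact lt_of_le_of_lt Finset.card_le_two (by omega))
  obtain ⟨w, hw⟩ : ∃ w, w ∉ ({s, t, u} : Finset (Fin n)) :=
    exists_notMem (by exact lt_of_le_of_lt Finset.card_le_three (by omega))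
  obtain ⟨v, hv⟩ : ∃ v, v ∉ ({s, t, u, w} : Finset (Fin n)) :=
    exists_notMem (by exact lt_of_le_of_lt Finset.card_le_four (by omega))
  obtain ⟨z, hz⟩ : ∃ z, z ∉ ({s, t, u, w, v} : Finset (Fin n)) :=
    exists_notMem (by exact lt_of_le_of_lt Finset.card_le_five (by omega))
  simp only [Finset.mem_insert, Finset.mem_singleton, not_or] at hu hw hv hz
  let g : Alt n := tri s t u
  let b : Fin n → K := a - a ∘ ((g : Perm (Fin n)) : Fin n → Fin n)
  have hb : b ∈ W := W.sub_mem ha (hW g a ha)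
  have hbo : ∀ i, i ≠ s → i ≠ t → i ≠ u → b i = 0 := fun i h1 h2 h3 => by
    show a i - a ((g : Perm (Fin n)) i) = 0
    rw [tri_other h1 h2 h3, sub_self]
  have hbs : b s = a s - a t := by
    show a s - a ((g : Perm (Fin n)) s) = _
    rw [tri_first hne (Ne.symm hu.2) (Ne.symm hu.1)]
  let g' : Alt n := tri s w v * tri w v z
  have hg' : (g' : Perm (Fin n)) = swap s w * swap v z :=
    tri_mul_tri_apply (Ne.symm hw.1) (Ne.symm hv.2.2.2) (Ne.symm hv.1) (Ne.symm hz.2.2.2.1) (Ne.symm hz.2.2.2.2)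
      (Ne.symm hz.1)
  have hc : b - b ∘ ((g' : Perm (Fin n)) : Fin n → Fin n) = b s • (Pi.single s 1 - Pi.single w 1 : Fin n → K) := by
    funext i
    simp only [Pi.sub_apply, Function.comp_apply, hg', Perm.mul_apply, Pi.smul_apply, smul_eq_mul]
    have ew := hbo w hw.1 hw.2.1 hw.2.2
    have ev := hbo v hv.1 hv.2.1 hv.2.2.1
    have ez := hbo z hz.1 hz.2.1 hz.2.2.1
    by_cases his : i = s
    · subst his
      rw [swap_apply_of_ne_of_ne (Ne.symm hv.1) (Ne.symm hz.1), swap_apply_left, ew]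
      simp [Ne.symm hw.1]
    by_cases hiw : i = w
    · subst hiw
      rw [swap_apply_of_ne_of_ne (Ne.symm hv.2.2.2) (Ne.symm hz.2.2.2.1), swap_apply_right, ew]
      simp [hw.1]
    by_cases hiv : i = v
    · subst hiv
      rw [swap_apply_left, swap_apply_of_ne_of_ne hz.1 hz.2.2.2.1, ev, ez]
      simp [his, hiw]
    by_cases hiz : i = z
    · subst hiz
      rw [swap_apply_right, swap_apply_of_ne_of_ne hv.1 hv.2.2.2, ev, ez]
      simp [his, hiw]
    rw [swap_apply_of_ne_of_ne hiv hiz, swap_apply_of_ne_of_ne his hiw]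
    simp [his, hiw]
  have hmem : (Pi.single s 1 - Pi.single w 1 : Fin n → K) ∈ W := by
    have h1 := W.sub_mem hb (hW g' b hb)
    rw [hc, hbs] at h1
    exact (W.smul_mem_iff (sub_ne_zero.2 hst)).1 h1
  obtain ⟨g₂, hg₂⟩ := exists_map (n := n) (j := 2) (by omega) (u := ![x, y]) (v := ![s, w])
    (by intro i j h; fin_cases i <;> fin_cases j <;> simp_all [eq_comm])
    (by intro i j h; fin_cases i <;> fin_cases j <;> simp_all [eq_comm])
  have h3 := hW g₂ _ hmem
  have e0 := hg₂ 0
  have e1 := hg₂ 1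
  simp only [Matrix.cons_val_zero, Matrix.cons_val_one, Matrix.cons_val] at e0 e1
  convert h3 using 1
  funext i
  simp only [Pi.sub_apply, Function.comp_apply, Pi.single_apply, ← e0, ← e1, EmbeddingLike.apply_eq_iff_eq]

end CfsgLib.AltDegree
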