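import Cfsg.Agent.Lib.AltDegree.Perm

/-!
Generalities for the reduction to groups with scalar kernel.
-/

set_option autoImplicit false

namespace CfsgLib.AltDegree

universe u

/-- The bound `r - 1 - [p ∣ r]`. -/
abbrev bnd (p r : ℕ) : ℕ := r - 1 - (if p ∣ r then 1 else 0)

theorem bnd_le (p r : ℕ) : bnd p r ≤ r - 1 := Nat.sub_le _ _

theorem le_bnd (p r : ℕ) : r - 2 ≤ bnd p r := by unfold bnd; split_ifs <;> omega

/-- A representation whose kernel lies in that of `π` has image surjecting on the same group. -/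
theorem exists_range_hom {G M A : Type*} [Group G] [Group M] [Group A] (π : G →* A)
    (hπ : Function.Surjective π) (ρ : G →* M) (hker : ρ.ker ≤ π.ker) :
    ∃ φ : ρ.range →* A, Function.Surjective φ := by
  refine ⟨(QuotientGroup.lift ρ.ker π hker).comp (QuotientGroup.quotientKerEquivRange ρ).symm.toMonoidHom,
    fun a => ?_⟩
  obtain ⟨g, rfl⟩ := hπ a
  refine ⟨QuotientGroup.quotientKerEquivRange ρ (g : G ⧸ ρ.ker), ?_⟩
  simp only [MonoidHom.comp_apply, MulEquiv.coe_toMonoidHom, MulEquiv.symm_apply_apply, QuotientGroup.lift_mk]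

/-- Eigenvectors for distinct joint eigenvalues are independent. -/
theorem linearIndependent_of_chars {K M : Type*} [Field K] [AddCommGroup M] [Module K M] {ι J : Type*}
    (op : J → Module.End K M) (χ : ι → J → K) (hχ : Function.Injective χ) (v : ι → M) (hv : ∀ i, v i ≠ 0)
    (hop : ∀ i j, op j (v i) = χ i j • v i) : LinearIndependent K v := by
  classical
  have key : ∀ (s : Finset ι) (c : ι → K), ∑ i ∈ s, c i • v i = 0 → ∀ i ∈ s, c i = 0 := by
    intro s
    induction s using Finset.induction with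
    | empty => intro c _ i hi; simp at hi
    | @insert j s hjs ih =>
      intro c hc
      rw [Finset.sum_insert hjs] at hc
      have hs : ∀ i ∈ s, c i = 0 := by
        intro i hi
        obtain ⟨a, ha⟩ := Function.ne_iff.1 (fun e => hjs ((hχ e) ▸ hi) : χ i ≠ χ j)
        have h1 := congrArg (fun x => op a x - χ j a • x) hc
        simp only [map_add, map_sum, map_smul, map_zero, hop, smul_add, Finset.smul_sum, smul_zero, sub_zero,
          smul_comm (χ j a) (c j), add_sub_add_left_eq_sub, ← Finset.sum_sub_distrib] at h1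
        have h2 : ∑ x ∈ s, (c x * (χ x a - χ j a)) • v x = 0 := by
          rw [← h1]
          refine Finset.sum_congr rfl fun x _ => ?_
          rw [mul_sub, sub_smul, smul_smul, smul_smul, mul_comm (χ j a)]
        exact (mul_eq_zero.1 (ih _ h2 i hi)).resolve_right (sub_ne_zero.2 ha)
      intro i hi
      rcases Finset.mem_insert.1 hi with rfl | hi
      · rw [Finset.sum_eq_zero (fun x hx => by rw [hs x hx, zero_smul]), add_zero] at hc
        exact (smul_eq_zero.1 hc).resolve_right (hv _)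
      · exact hs i hi
  exact linearIndependent_iff'.2 fun s c hc i hi => key s c hc i hi

/-- Commuting operators have a common eigenvector. -/
theorem exists_common_eigenvector {K V : Type*} [Field K] [IsAlgClosed K] [AddCommGroup V] [Module K V]
    [FiniteDimensional K V] [Nontrivial V] {J : Type*} (op : J → Module.End K V)
    (hcomm : ∀ i j x, op i (op j x) = op j (op i x)) :
    ∃ v ≠ (0 : V), ∃ χ : J → K, ∀ j, op j v = χ j • v := by
  obtain ⟨U, ⟨hU0, hU⟩, hmin⟩ := wellFounded_lt.has_min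
    {U : Submodule K V | U ≠ ⊥ ∧ ∀ j, ∀ x ∈ U, op j x ∈ U} ⟨⊤, top_ne_bot, fun _ _ _ => trivial⟩
  have : Nontrivial U := Submodule.nontrivial_iff_ne_bot.2 hU0
  have hsc : ∀ j, ∃ c : K, ∀ x ∈ U, op j x = c • x := by
    intro j
    obtain ⟨c, hc⟩ := Module.End.exists_eigenvalue ((op j).restrict (hU j))
    obtain ⟨⟨w, hw⟩, hwc, hw0⟩ := hc.exists_hasEigenvector
    rw [Module.End.mem_eigenspace_iff] at hwc
    have hwc' : op j w = c • w := congrArg Subtype.val hwc
    let U' : Submodule K V := U ⊓ LinearMap.ker (op j - c • 1)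
    have hmem : ∀ x, x ∈ U' ↔ x ∈ U ∧ op j x = c • x := fun x => by
      simp [U', sub_eq_zero]
    have h1 : U' ∈ {U : Submodule K V | U ≠ ⊥ ∧ ∀ j, ∀ x ∈ U, op j x ∈ U} := by
      refine ⟨fun h => hw0 (Subtype.ext ((Submodule.mem_bot K).1 (h ▸ (hmem w).2 ⟨hw, hwc'⟩))), fun i x hx => ?_⟩
      obtain ⟨a, b⟩ := (hmem x).1 hx
      exact (hmem _).2 ⟨hU i x a, by rw [hcomm, b, map_smul]⟩
    have h2 : U' = U := (inf_le_left : U' ≤ U).eq_of_not_lt (hmin U' h1)
    exact ⟨c, fun x hx => ((hmem x).1 (h2.symm ▸ hx)).2⟩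
  choose χ hχ using hsc
  obtain ⟨v, hv, hv0⟩ := Submodule.exists_mem_ne_zero_of_ne_bot hU0
  exact ⟨v, hv0, χ, fun j => hχ j v hv⟩

/-- Alternating groups are not commutative. -/
theorem not_comm_alt {r : ℕ} (hr : 5 ≤ r) : ¬ ∀ a b : Alt r, Commute a b := fun h => by
  obtain ⟨k, rfl⟩ : ∃ k, r = k + 3 := ⟨r - 3, by omega⟩
  let _ : CommGroup (Alt (k + 3)) :=
    { (inferInstance : Group (Alt (k + 3))) with mul_comm := fun a b => (h a b).eq }
  have := hom_eq_one (k := k + 3) (by omega) (MonoidHom.id (Alt (k + 3))) (t0 k)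
  have h0 := congrArg (fun g : Alt (k + 3) => (g : Equiv.Perm (Fin (k + 3))) ⟨0, by omega⟩) this
  simp only [MonoidHom.id_apply, t0] at h0
  rw [tri_first (by simp) (by simp) (by simp)] at h0
  simp at h0

theorem card_alt {r : ℕ} (hr : 2 ≤ r) : 2 * Nat.card (Alt r) = r.factorial := by
  have : Nontrivial (Fin r) := Fin.nontrivial_iff_two_le.2 hr
  rw [two_mul_nat_card_alternatingGroup, Nat.card_perm, Nat.card_fin]

/-- A group mapping onto `Alt r` inside `Sym b` forces `r - 1 ≤ b`. -/
theorem le_of_card_le_factorial {r b : ℕ} (hr : 5 ≤ r) (h : Nat.card (Alt r) ≤ b.factorial) : r - 1 ≤ b := by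
  by_contra hb
  have h1 : b.factorial ≤ (r - 2).factorial := Nat.factorial_le (by omega)
  have h2 : r.factorial = r * ((r - 1) * (r - 2).factorial) := by
    obtain ⟨m, rfl⟩ : ∃ m, r = m + 2 := ⟨r - 2, by omega⟩
    rw [show m + 2 - 1 = m + 1 by omega, show m + 2 - 2 = m by omega, Nat.factorial_succ, Nat.factorial_succ]
  have h3 : 3 * (r - 2).factorial ≤ r * ((r - 1) * (r - 2).factorial) := by
    rw [← mul_assoc]
    exact Nat.mul_le_mul_right _ (le_trans (by omega : 3 ≤ r * 1) (Nat.mul_le_mul_left r (by omega)))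
  have := card_alt (r := r) (by omega)
  have := (r - 2).factorial_pos
  omega

theorem card_alt_ge {r : ℕ} (hr : 9 ≤ r) : 181440 ≤ Nat.card (Alt r) := by
  have := card_alt (r := r) (by omega)
  have h9 : Nat.factorial 9 ≤ r.factorial := Nat.factorial_le hr
  rw [show Nat.factorial 9 = 362880 by decide] at h9
  omega

/-- Linear actions on a finite space are matrix representations. -/
theorem exists_matrix_rep_linear {F M G : Type*} [Field F] [AddCommGroup M] [Module F M] [Finite M] [Group G]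
    (φ : G → (M →ₗ[F] M)) (h1 : ∀ x, φ 1 x = x) (hm : ∀ g h x, φ (g * h) x = φ g (φ h x)) :
    ∃ e, Nat.card M = Nat.card F ^ e ∧ ∃ ρ : G →* GL (Fin e) F, ∀ g, ρ g = 1 → ∀ x, φ g x = x := by
  have : Module.Finite F M := Module.Finite.of_finite
  let ρ₀ : G →* Module.End F M :=
    { toFun := φ
      map_one' := LinearMap.ext fun x => by simp [h1]
      map_mul' := fun g h => LinearMap.ext fun x => by simp [hm] }
  let mat : (Module.End F M)ˣ →* GL (Fin (Module.finrank F M)) F :=
    Units.map (LinearMap.toMatrixAlgEquiv (Module.finBasis F M)).toMonoidHom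
  have hmat : Function.Injective mat := fun a b e =>
    Units.ext ((LinearMap.toMatrixAlgEquiv (Module.finBasis F M)).injective (congrArg Units.val e))
  refine ⟨Module.finrank F M, Module.natCard_eq_pow_finrank, mat.comp ρ₀.toHomUnits, fun g hg x => ?_⟩
  have h : ρ₀.toHomUnits g = 1 := hmat (by rw [map_one]; exact hg)
  exact LinearMap.congr_fun (congrArg Units.val h) x

/-- Actions on a finite abelian group of prime exponent are matrix representations. -/
theorem exists_matrix_rep_add {M G : Type*} [AddCommGroup M] [Finite M] [Group G] (s : ℕ) [Fact s.Prime]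
    (hM : ∀ x : M, s • x = 0) (f : G → (M →+ M)) (h1 : ∀ x, f 1 x = x)
    (hm : ∀ g h x, f (g * h) x = f g (f h x)) :
    ∃ e, Nat.card M = s ^ e ∧ ∃ ρ : G →* GL (Fin e) (ZMod s), ∀ g, ρ g = 1 → ∀ x, f g x = x := by
  let _ : Module (ZMod s) M := AddCommGroup.zmodModule hM
  obtain ⟨e, he, ρ, hρ⟩ := exists_matrix_rep_linear (F := ZMod s) (M := M) (G := G)
    (fun g => { toFun := f g, map_add' := map_add (f g), map_smul' := fun c x => ZMod.map_smul (f g) c x }) h1 hm
  exact ⟨e, by rwa [Nat.card_zmod] at he, ρ, hρ⟩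

/-- The multiplicative form. -/
theorem exists_matrix_rep {Q G : Type*} [CommGroup Q] [Finite Q] [Group G] (s : ℕ) [Fact s.Prime]
    (hQ : ∀ x : Q, x ^ s = 1) (f : G → (Q →* Q)) (h1 : ∀ x, f 1 x = x) (hm : ∀ g h x, f (g * h) x = f g (f h x)) :
    ∃ e, Nat.card Q = s ^ e ∧ ∃ ρ : G →* GL (Fin e) (ZMod s), ∀ g, ρ g = 1 → ∀ x, f g x = x := by
  obtain ⟨e, he, ρ, hρ⟩ := exists_matrix_rep_add (M := Additive Q) (G := G) s
    (fun x => congrArg Additive.ofMul (hQ x.toMul)) (fun g => MonoidHom.toAdditive (f g))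
    (fun x => congrArg Additive.ofMul (h1 x.toMul)) (fun g h x => congrArg Additive.ofMul (hm g h x.toMul))
  exact ⟨e, by rw [Nat.card_congr (Additive.ofMul : Q ≃ Additive Q), he], ρ,
    fun g hg x => congrArg Additive.toMul (hρ g hg (Additive.ofMul x))⟩

/-- Conjugation on an elementary abelian section. -/
theorem exists_matrix_rep_conj {G : Type*} [Group G] (E : Subgroup G) [E.Normal] [Finite E] (C : Subgroup E)
    [C.Normal] (s : ℕ) [Fact s.Prime] (hcomm : ∀ x y : E ⧸ C, x * y = y * x) (hexp : ∀ x : E, x ^ s ∈ C)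
    (hC : ∀ (g : G), ∀ x ∈ C, MulAut.conjNormal g x ∈ C) :
    ∃ e, Nat.card (E ⧸ C) = s ^ e ∧ ∃ ρ : G →* GL (Fin e) (ZMod s),
      ∀ g, ρ g = 1 → ∀ a : E, a⁻¹ * MulAut.conjNormal g a ∈ C := by
  letI : CommGroup (E ⧸ C) := CommGroup.mk hcomm
  have hmap : ∀ g : G, C ≤ C.comap (MulAut.conjNormal g : E ≃* E).toMonoidHom := fun g x hx => hC g x hx
  let f : G → (E ⧸ C →* E ⧸ C) := fun g =>
    QuotientGroup.map C C (MulAut.conjNormal g : E ≃* E).toMonoidHom (hmap g)
  have hf : ∀ g (a : E), f g (QuotientGroup.mk a) = QuotientGroup.mk (MulAut.conjNormal g a) := fun g a =>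
    QuotientGroup.map_mk _ _ _ _ a
  have hQ : ∀ x : E ⧸ C, x ^ s = 1 := fun x => by
    induction x using QuotientGroup.induction_on with | _ x => ?_
    rw [← QuotientGroup.mk_pow, QuotientGroup.eq_one_iff]
    exact hexp x
  obtain ⟨e, he, ρ, hρ⟩ := exists_matrix_rep (Q := E ⧸ C) (G := G) s hQ f
    (fun x => by
      induction x using QuotientGroup.induction_on with | _ x => ?_
      rw [hf, map_one, MulAut.one_apply])
    (fun g h x => by
      induction x using QuotientGroup.induction_on with | _ x => ?_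
      rw [hf, hf, hf, map_mul, MulAut.mul_apply])
  refine ⟨e, he, ρ, fun g hg a => ?_⟩
  have := hρ g hg (QuotientGroup.mk a)
  rw [hf, eq_comm, QuotientGroup.eq] at this
  exact this

end CfsgLib.AltDegree
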