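import Mathlib

/-!
Three-cycles in alternating groups and embeddings between alternating groups.
-/

set_option autoImplicit false

namespace CfsgLib.AltDegree

open Equiv

variable {n n' : ℕ}

/-- The alternating group on `Fin n`. -/
abbrev Alt (n : ℕ) : Type := ↥(alternatingGroup (Fin n))

/-- The three-cycle `(a b c)`, trivial for degenerate arguments. -/
def tri (a b c : Fin n) : Alt n :=
  if h : a ≠ b ∧ b ≠ c then ⟨swap a b * swap b c, by
    rw [Perm.mem_alternatingGroup, map_mul, Perm.sign_swap h.1, Perm.sign_swap h.2]; rfl⟩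
  else 1

theorem tri_val {a b c : Fin n} (hab : a ≠ b) (hbc : b ≠ c) :
    (tri a b c : Perm (Fin n)) = swap a b * swap b c := by
  rw [tri, dif_pos ⟨hab, hbc⟩]

theorem tri_first {a b c : Fin n} (hab : a ≠ b) (hbc : b ≠ c) (hac : a ≠ c) :
    (tri a b c : Perm (Fin n)) a = b := by
  rw [tri_val hab hbc, Perm.mul_apply, swap_apply_of_ne_of_ne hab hac, swap_apply_left]

theorem tri_second {a b c : Fin n} (hab : a ≠ b) (hbc : b ≠ c) (hac : a ≠ c) :
    (tri a b c : Perm (Fin n)) b = c := by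
  rw [tri_val hab hbc, Perm.mul_apply, swap_apply_left, swap_apply_of_ne_of_ne hac.symm hbc.symm]

theorem tri_third {a b c : Fin n} (hab : a ≠ b) (hbc : b ≠ c) :
    (tri a b c : Perm (Fin n)) c = a := by
  rw [tri_val hab hbc, Perm.mul_apply, swap_apply_right, swap_apply_right]

theorem tri_other {a b c x : Fin n} (ha : x ≠ a) (hb : x ≠ b) (hc : x ≠ c) :
    (tri a b c : Perm (Fin n)) x = x := by
  by_cases h : a ≠ b ∧ b ≠ c
  · rw [tri_val h.1 h.2, Perm.mul_apply, swap_apply_of_ne_of_ne hb hc, swap_apply_of_ne_of_ne ha hb]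
  · rw [tri, dif_neg h]; rfl

theorem tri_conj (g : Alt n) {a b c : Fin n} (hab : a ≠ b) (hbc : b ≠ c) :
    g * tri a b c * g⁻¹ = tri ((g : Perm (Fin n)) a) ((g : Perm (Fin n)) b) ((g : Perm (Fin n)) c) := by
  refine Subtype.ext ?_
  push_cast
  rw [tri_val hab hbc, tri_val (fun h => hab ((g : Perm (Fin n)).injective h))
    (fun h => hbc ((g : Perm (Fin n)).injective h)), Equiv.swap_apply_apply, Equiv.swap_apply_apply]
  group

theorem tri_inv {a b c : Fin n} (hab : a ≠ b) (hbc : b ≠ c) : (tri a b c)⁻¹ = tri c b a := by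
  refine Subtype.ext ?_
  push_cast
  rw [tri_val hab hbc, tri_val hbc.symm hab.symm, mul_inv_rev, swap_inv, swap_inv, swap_comm b c,
    swap_comm a b]

theorem tri_rotate {a b c : Fin n} (hab : a ≠ b) (hbc : b ≠ c) (hac : a ≠ c) : tri a b c = tri b c a := by
  refine Subtype.ext (Equiv.ext fun x => ?_)
  by_cases ha : x = a
  · subst ha; rw [tri_first hab hbc hac, tri_third hbc hac.symm]
  by_cases hb : x = b
  · subst hb; rw [tri_second hab hbc hac, tri_first hbc hac.symm hab.symm]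
  by_cases hc : x = c
  · subst hc; rw [tri_third hab hbc, tri_second hbc hac.symm hab.symm]
  rw [tri_other ha hb hc, tri_other hb hc ha]

theorem isThreeCycle_tri {a b c : Fin n} (hab : a ≠ b) (hbc : b ≠ c) (hac : a ≠ c) :
    (tri a b c : Perm (Fin n)).IsThreeCycle := by
  rw [tri_val hab hbc, swap_comm a b]
  exact Perm.isThreeCycle_swap_mul_swap_same hab.symm hbc hac

/-- An embedding of points gives one of alternating groups. -/
noncomputable def viaA (f : Fin n ↪ Fin n') : Alt n →* Alt n' :=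
  ((Perm.viaEmbeddingHom f).comp (alternatingGroup (Fin n)).subtype).codRestrict _ fun g => by
    rw [Perm.mem_alternatingGroup, MonoidHom.comp_apply, Perm.viaEmbeddingHom_apply, Perm.viaEmbedding,
      Perm.sign_extendDomain]
    exact Perm.mem_alternatingGroup.1 g.2

theorem viaA_apply (f : Fin n ↪ Fin n') (g : Alt n) (x : Fin n) :
    (viaA f g : Perm (Fin n')) (f x) = f ((g : Perm (Fin n)) x) :=
  Perm.viaEmbedding_apply _ f x

theorem viaA_apply_of_notMem (f : Fin n ↪ Fin n') (g : Alt n) (x : Fin n') (hx : x ∉ Set.range f) :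
    (viaA f g : Perm (Fin n')) x = x :=
  Perm.viaEmbedding_apply_of_notMem _ f x hx

theorem viaA_injective (f : Fin n ↪ Fin n') : Function.Injective (viaA f) := fun g h e =>
  Subtype.ext (Perm.viaEmbeddingHom_injective f (congrArg Subtype.val e))

theorem viaA_tri (f : Fin n ↪ Fin n') {a b c : Fin n} (hab : a ≠ b) (hbc : b ≠ c) (hac : a ≠ c) :
    viaA f (tri a b c) = tri (f a) (f b) (f c) := by
  refine Subtype.ext (Equiv.ext fun x => ?_)
  have h1 := f.injective.ne hab
  have h2 := f.injective.ne hbc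
  have h3 := f.injective.ne hac
  by_cases hx : x ∈ Set.range f
  · obtain ⟨y, rfl⟩ := hx
    rw [viaA_apply]
    by_cases ha : y = a
    · subst ha; rw [tri_first hab hbc hac, tri_first h1 h2 h3]
    by_cases hb : y = b
    · subst hb; rw [tri_second hab hbc hac, tri_second h1 h2 h3]
    by_cases hc : y = c
    · subst hc; rw [tri_third hab hbc, tri_third h1 h2]
    rw [tri_other ha hb hc, tri_other (f.injective.ne ha) (f.injective.ne hb) (f.injective.ne hc)]
  · rw [viaA_apply_of_notMem f _ x hx]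
    exact (tri_other (fun e => hx ⟨a, e.symm⟩) (fun e => hx ⟨b, e.symm⟩) (fun e => hx ⟨c, e.symm⟩)).symm

/-- High transitivity. -/
theorem exists_map {j : ℕ} (hn : j + 2 ≤ n) {u v : Fin j → Fin n} (hu : Function.Injective u)
    (hv : Function.Injective v) : ∃ g : Alt n, ∀ i, (g : Perm (Fin n)) (u i) = v i := by
  have h : MulAction.IsMultiplyPretransitive (alternatingGroup (Fin n)) (Fin n) j := by
    have := alternatingGroup.isMultiplyPretransitive (α := Fin n)
    exact MulAction.isMultiplyPretransitive_of_le (show j ≤ Nat.card (Fin n) - 2 by simp; omega) (by simp)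
  obtain ⟨g, hg⟩ := h.exists_smul_eq (⟨u, hu⟩ : Fin j ↪ Fin n) ⟨v, hv⟩
  exact ⟨g, fun i => congrArg (fun e : Fin j ↪ Fin n => e i) hg⟩

/-- Three-cycles are all conjugate. -/
theorem exists_conj_tri (hn : 5 ≤ n) {a b c a' b' c' : Fin n} (hab : a ≠ b) (hbc : b ≠ c) (hac : a ≠ c)
    (hab' : a' ≠ b') (hbc' : b' ≠ c') (hac' : a' ≠ c') :
    ∃ g : Alt n, g * tri a b c * g⁻¹ = tri a' b' c' := by
  obtain ⟨g, hg⟩ := exists_map (n := n) (j := 3) hn (u := ![a, b, c]) (v := ![a', b', c'])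
    (by intro i j h; fin_cases i <;> fin_cases j <;> simp_all [eq_comm])
    (by intro i j h; fin_cases i <;> fin_cases j <;> simp_all [eq_comm])
  refine ⟨g, ?_⟩
  rw [tri_conj g hab hbc]
  have h0 := hg 0
  have h1 := hg 1
  have h2 := hg 2
  simp only [Matrix.cons_val_zero, Matrix.cons_val_one, Matrix.cons_val] at h0 h1 h2
  rw [h0, h1, h2]

/-- Shift by three. -/
def emb3 (k : ℕ) : Fin k ↪ Fin (k + 3) := Fin.addNatEmb 3

variable {k : ℕ}

theorem emb3_val (x : Fin k) : (emb3 k x : ℕ) = x + 3 := rfl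

theorem mem_range_emb3 (x : Fin (k + 3)) : x ∈ Set.range (emb3 k) ↔ 3 ≤ (x : ℕ) := by
  refine ⟨fun ⟨y, hy⟩ => by rw [← hy, emb3_val]; omega, fun h => ⟨⟨(x : ℕ) - 3, by omega⟩, Fin.ext ?_⟩⟩
  rw [emb3_val]
  show (x : ℕ) - 3 + 3 = x
  omega

theorem exists_viaA_emb3 (g : Alt (k + 3))
    (h : ∀ x : Fin (k + 3), (x : ℕ) < 3 → (g : Perm (Fin (k + 3))) x = x) :
    ∃ a : Alt k, viaA (emb3 k) a = g := by
  have hg : ∀ x : Fin (k + 3), (g : Perm (Fin (k + 3))) x ∈ Set.range (emb3 k) ↔ x ∈ Set.range (emb3 k) :=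
    fun x => by
      rw [mem_range_emb3, mem_range_emb3]
      constructor <;> intro hx <;> by_contra hc
      · have := h x (by omega)
        rw [this] at hx
        exact hc hx
      · have h1 := h _ (Nat.lt_of_not_le hc)
        rw [(g : Perm (Fin (k + 3))).injective h1] at hc
        exact hc hx
  let e := Equiv.ofInjective (emb3 k) (emb3 k).injective
  let σ : Perm (Fin k) := (e.trans ((g : Perm (Fin (k + 3))).subtypePerm hg)).trans e.symm
  have he : Perm.viaEmbedding σ (emb3 k) = g := by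
    refine Equiv.ext fun x => ?_
    by_cases hx : x ∈ Set.range (emb3 k)
    · obtain ⟨y, rfl⟩ := hx
      rw [Perm.viaEmbedding_apply]
      show emb3 k (e.symm ((g : Perm (Fin (k + 3))).subtypePerm hg (e y))) = _
      rw [Equiv.apply_ofInjective_symm (emb3 k).injective]
      rfl
    · rw [Perm.viaEmbedding_apply_of_notMem _ _ _ hx, h x]
      rw [mem_range_emb3] at hx
      omega
  have hs : σ ∈ alternatingGroup (Fin k) := by
    rw [Perm.mem_alternatingGroup]
    have := Perm.mem_alternatingGroup.1 g.2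
    rwa [← he, Perm.viaEmbedding, Perm.sign_extendDomain] at this
  exact ⟨⟨σ, hs⟩, Subtype.ext he⟩

/-- The standard three-cycle `(0 1 2)`. -/
def t0 (k : ℕ) : Alt (k + 3) := tri ⟨0, by omega⟩ ⟨1, by omega⟩ ⟨2, by omega⟩

theorem t0_comm_viaA (a : Alt k) : Commute (viaA (emb3 k) a) (t0 k) := by
  have hfix : ∀ i (hi : i < 3), (viaA (emb3 k) a : Perm (Fin (k + 3))) ⟨i, by omega⟩ = ⟨i, by omega⟩ :=
    fun i hi => viaA_apply_of_notMem _ _ _ (by rw [mem_range_emb3]; simp; omega)
  have h := tri_conj (viaA (emb3 k) a) (a := (⟨0, by omega⟩ : Fin (k + 3))) (b := ⟨1, by omega⟩)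
    (c := ⟨2, by omega⟩) (by simp) (by simp)
  rw [hfix 0 (by omega), hfix 1 (by omega), hfix 2 (by omega), mul_inv_eq_iff_eq_mul] at h
  exact h

/-- The centraliser of `(0 1 2)`. -/
theorem centralizer_t0 {c : Alt (k + 3)} (hc : Commute c (t0 k)) :
    ∃ (i : ℕ) (a : Alt k), c = t0 k ^ i * viaA (emb3 k) a := by
  let p0 : Fin (k + 3) := ⟨0, by omega⟩
  let p1 : Fin (k + 3) := ⟨1, by omega⟩
  let p2 : Fin (k + 3) := ⟨2, by omega⟩
  have h01 : p0 ≠ p1 := by simp [p0, p1]
  have h12 : p1 ≠ p2 := by simp [p1, p2]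
  have h02 : p0 ≠ p2 := by simp [p0, p2]
  set T : Perm (Fin (k + 3)) := (t0 k : Perm (Fin (k + 3))) with hT
  have e0 : T p0 = p1 := tri_first h01 h12 h02
  have e1 : T p1 = p2 := tri_second h01 h12 h02
  have e2 : T p2 = p0 := tri_third h01 h12
  have eo : ∀ x, x ≠ p0 → x ≠ p1 → x ≠ p2 → T x = x := fun x a b c => tri_other a b c
  have hcomm : ∀ x, (c : Perm (Fin (k + 3))) (T x) = T ((c : Perm (Fin (k + 3))) x) := fun x =>
    congrArg (fun g : Alt (k + 3) => (g : Perm (Fin (k + 3))) x) hc.eq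
  have hcase : (c : Perm (Fin (k + 3))) p0 = p0 ∨ (c : Perm (Fin (k + 3))) p0 = p1 ∨
      (c : Perm (Fin (k + 3))) p0 = p2 := by
    by_contra hn
    push Not at hn
    have h := hcomm p0
    rw [e0, eo _ hn.1 hn.2.1 hn.2.2] at h
    exact h01 ((c : Perm (Fin (k + 3))).injective h).symm
  obtain ⟨i, hi⟩ : ∃ i : ℕ, (c : Perm (Fin (k + 3))) p0 = (T ^ i) p0 := by
    rcases hcase with h | h | h
    · exact ⟨0, h⟩
    · exact ⟨1, by rw [pow_one, e0, h]⟩
    · exact ⟨2, by rw [pow_two, Perm.mul_apply, e0, e1, h]⟩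
  set c' : Alt (k + 3) := (t0 k ^ i)⁻¹ * c with hc'
  have h0 : (c' : Perm (Fin (k + 3))) p0 = p0 := by
    rw [hc']
    show ((T ^ i)⁻¹ : Perm (Fin (k + 3))) ((c : Perm (Fin (k + 3))) p0) = p0
    rw [Perm.inv_eq_iff_eq, hi]
  have hcomm' : ∀ x, (c' : Perm (Fin (k + 3))) (T x) = T ((c' : Perm (Fin (k + 3))) x) := fun x =>
    congrArg (fun g : Alt (k + 3) => (g : Perm (Fin (k + 3))) x)
      ((((Commute.refl (t0 k)).pow_left i).inv_left).mul_left hc).eq
  have h1 : (c' : Perm (Fin (k + 3))) p1 = p1 := by rw [← e0, hcomm', h0]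
  have h2 : (c' : Perm (Fin (k + 3))) p2 = p2 := by rw [← e1, hcomm', h1]
  obtain ⟨a, ha⟩ := exists_viaA_emb3 c' (fun x hx => by
    rcases (show (x : ℕ) = 0 ∨ (x : ℕ) = 1 ∨ (x : ℕ) = 2 by omega) with h | h | h
    · rw [show x = p0 from Fin.ext h]; exact h0
    · rw [show x = p1 from Fin.ext h]; exact h1
    · rw [show x = p2 from Fin.ext h]; exact h2)
  exact ⟨i, a, by rw [ha, hc', mul_inv_cancel_left]⟩

/-- Alternating groups of degree at least 5 are perfect: homs to commutative groups are trivial. -/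
theorem hom_eq_one (hk : 5 ≤ k) {M : Type*} [CommGroup M] (φ : Alt k →* M) (a : Alt k) : φ a = 1 := by
  have : IsSimpleGroup (Alt k) := alternatingGroup.isSimpleGroup (by simpa using hk)
  rcases φ.normal_ker.eq_bot_or_eq_top with h | h
  · exfalso
    have hinj := (MonoidHom.ker_eq_bot_iff φ).1 h
    have e : Commute (tri (⟨0, by omega⟩ : Fin k) ⟨1, by omega⟩ ⟨2, by omega⟩)
        (tri (⟨0, by omega⟩ : Fin k) ⟨1, by omega⟩ ⟨3, by omega⟩) :=
      hinj (by rw [map_mul, map_mul, mul_comm])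
    have := congrArg (fun g : Alt k => (g : Perm (Fin k)) ⟨0, by omega⟩) e.eq
    simp [tri, Equiv.swap_apply_def, Fin.ext_iff] at this
  · exact MonoidHom.mem_ker.1 (h ▸ Subgroup.mem_top a)

end CfsgLib.AltDegree
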