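import Cfsg.Agent.Lib.AltDegree.Perm

/-!
Projective representations of alternating groups: canonical lifts of three-cycles.
-/

set_option autoImplicit false

namespace CfsgLib.AltDegree

open Equiv

variable {K : Type*} [Field K] {V : Type*} [AddCommGroup V] [Module K V]

/-- Scalar operators. -/
noncomputable def sc (K : Type*) [Field K] (V : Type*) [AddCommGroup V] [Module K V] :
    Kˣ →* (Module.End K V)ˣ := Units.map (algebraMap K (Module.End K V)).toMonoidHom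

theorem sc_apply (c : Kˣ) (v : V) : (sc K V c : Module.End K V) v = (c : K) • v := rfl

theorem sc_comm (c : Kˣ) (f : (Module.End K V)ˣ) : Commute (sc K V c) f :=
  Units.ext (Algebra.commutes (c : K) (f : Module.End K V))

theorem sc_injective [Nontrivial V] : Function.Injective (sc K V) := fun a b h => by
  obtain ⟨v, hv⟩ := exists_ne (0 : V)
  have e : (a : K) • v = (b : K) • v := by rw [← sc_apply, h, sc_apply]
  exact Units.ext (smul_left_injective K hv e)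

/-- A finite linear group with quotient an alternating group and scalar kernel. -/
structure Setup (K : Type*) [Field K] (V : Type*) [AddCommGroup V] [Module K V] (r : ℕ) where
  H : Subgroup (Module.End K V)ˣ
  finite : Finite H
  π : H →* Alt r
  surj : Function.Surjective π
  ker : ∀ h : H, π h = 1 → ∃ c : Kˣ, (h : (Module.End K V)ˣ) = sc K V c
  irr : ∀ W : Submodule K V, (∀ h : H, ∀ v ∈ W, ((h : (Module.End K V)ˣ) : Module.End K V) v ∈ W) → W = ⊥ ∨ W = ⊤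

variable {k : ℕ}

theorem center_alt {r : ℕ} (hr : 5 ≤ r) {z : Alt r} (hz : ∀ g, Commute z g) : z = 1 := by
  have h := alternatingGroup.center_eq_bot (α := Fin r) (by rw [Nat.card_fin]; omega)
  exact Subgroup.mem_bot.1 (h ▸ Subgroup.mem_center_iff.2 fun g => ((hz g).eq).symm)

namespace Setup

variable {r : ℕ} (S : Setup K V r)

/-- `f` is a lift of `g`. -/
def Is (f : (Module.End K V)ˣ) (g : Alt r) : Prop :=
  ∃ (h : S.H) (c : Kˣ), S.π h = g ∧ f = sc K V c * (h : (Module.End K V)ˣ)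

theorem exists_is (g : Alt r) : ∃ f, S.Is f g := by
  obtain ⟨h, rfl⟩ := S.surj g
  exact ⟨h, h, 1, rfl, by rw [map_one, one_mul]⟩

variable {S} {f f' l : (Module.End K V)ˣ} {g g' x : Alt r}

theorem Is.mul (h₁ : S.Is f g) (h₂ : S.Is f' g') : S.Is (f * f') (g * g') := by
  obtain ⟨a, c, rfl, rfl⟩ := h₁
  obtain ⟨b, d, rfl, rfl⟩ := h₂
  refine ⟨a * b, c * d, map_mul _ _ _, ?_⟩
  rw [map_mul, Subgroup.coe_mul, mul_assoc, ← mul_assoc (a : (Module.End K V)ˣ), ← (sc_comm d (a : (Module.End K V)ˣ)).eq]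
  simp only [mul_assoc]

theorem Is.inv (h₁ : S.Is f g) : S.Is f⁻¹ g⁻¹ := by
  obtain ⟨a, c, rfl, rfl⟩ := h₁
  refine ⟨a⁻¹, c⁻¹, map_inv _ _, ?_⟩
  rw [mul_inv_rev, map_inv, Subgroup.coe_inv, ((sc_comm c (a : (Module.End K V)ˣ)).inv_inv).eq]

variable (S) in
theorem is_sc (c : Kˣ) : S.Is (sc K V c) 1 := ⟨1, c, map_one _, by simp⟩

theorem Is.smul (h₁ : S.Is f g) (c : Kˣ) : S.Is (sc K V c * f) g := by
  simpa using (S.is_sc c).mul h₁

theorem Is.pow (h₁ : S.Is f g) (i : ℕ) : S.Is (f ^ i) (g ^ i) := by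
  induction i with
  | zero => simpa using S.is_sc 1
  | succ i ih => rw [pow_succ, pow_succ]; exact ih.mul h₁

theorem Is.of_one (h₁ : S.Is f 1) : ∃ c : Kˣ, f = sc K V c := by
  obtain ⟨a, c, ha, rfl⟩ := h₁
  obtain ⟨d, hd⟩ := S.ker a ha
  exact ⟨c * d, by rw [map_mul, hd]⟩

theorem Is.exists_sc (h₁ : S.Is f g) (h₂ : S.Is f' g) : ∃ c : Kˣ, f' = sc K V c * f := by
  obtain ⟨c, hc⟩ := Is.of_one (show S.Is (f' * f⁻¹) 1 by simpa using h₂.mul h₁.inv)
  exact ⟨c, by rw [← hc, inv_mul_cancel_right]⟩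

theorem Is.eq_one_of_sc (hr : 5 ≤ r) {c : Kˣ} (h₁ : S.Is (sc K V c) g) : g = 1 := by
  obtain ⟨a, d, rfl, e⟩ := h₁
  refine center_alt hr fun g' => ?_
  obtain ⟨b, rfl⟩ := S.surj g'
  have ha : (a : (Module.End K V)ˣ) = sc K V (d⁻¹ * c) := by rw [map_mul, map_inv, e, inv_mul_cancel_left]
  have : Commute a b := Subtype.ext (by rw [Subgroup.coe_mul, Subgroup.coe_mul, ha]; exact (sc_comm _ _).eq)
  exact this.map S.π

end Setup

section Lifts

variable {S : Setup K V (k + 3)}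

/-- Three-cycles. -/
def IsTri (t : Alt (k + 3)) : Prop := ∃ g : Alt (k + 3), g * t0 k * g⁻¹ = t

theorem isTri_tri (hk : 2 ≤ k) {a b c : Fin (k + 3)} (hab : a ≠ b) (hbc : b ≠ c) (hac : a ≠ c) :
    IsTri (tri a b c) :=
  exists_conj_tri (by omega) (by simp) (by simp) (by simp) hab hbc hac

theorem IsTri.conj {t : Alt (k + 3)} (ht : IsTri t) (g : Alt (k + 3)) : IsTri (g * t * g⁻¹) := by
  obtain ⟨a, rfl⟩ := ht
  exact ⟨g * a, by group⟩

/-- An inverter of `(0 1 2)`. -/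
theorem exists_invert_t0 (hk : 6 ≤ k) : ∃ x : Alt (k + 3), x * t0 k * x⁻¹ = (t0 k)⁻¹ ∧ x * x = 1 := by
  let x : Alt 9 := ⟨swap 0 1 * swap 3 4, Perm.mem_alternatingGroup.2 (by decide)⟩
  have h : x * tri 0 1 2 * x⁻¹ = (tri 0 1 2)⁻¹ ∧ x * x = 1 := by decide
  let q : Fin 9 ↪ Fin (k + 3) := Fin.castLEEmb (by omega)
  have hq : viaA q (tri 0 1 2) = t0 k := by
    rw [viaA_tri q (by decide) (by decide) (by decide)]; rfl
  refine ⟨viaA q x, ?_, ?_⟩
  · rw [← hq, ← map_inv, ← map_mul, ← map_mul, h.1, map_inv]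
  · rw [← map_mul, h.2, map_one]

theorem t0_pow_three : t0 k ^ 3 = 1 := by
  refine Subtype.ext ?_
  have := (isThreeCycle_tri (n := k + 3) (a := ⟨0, by omega⟩) (b := ⟨1, by omega⟩) (c := ⟨2, by omega⟩)
    (by simp) (by simp) (by simp)).orderOf
  have e := pow_orderOf_eq_one (t0 k : Perm (Fin (k + 3)))
  rw [show orderOf (t0 k : Perm (Fin (k + 3))) = 3 from this] at e
  rw [Subgroup.coe_pow, e]
  rfl

variable (S) in
/-- The normalised lift of a three-cycle. -/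
def Good (f : (Module.End K V)ˣ) (t : Alt (k + 3)) : Prop :=
  S.Is f t ∧ f ^ 3 = 1 ∧ ∀ l x, S.Is l x → x * t * x⁻¹ = t⁻¹ → l * f * l⁻¹ = f⁻¹

theorem Good.conj {f l : (Module.End K V)ˣ} {t g : Alt (k + 3)} (hf : Good S f t) (hl : S.Is l g) :
    Good S (l * f * l⁻¹) (g * t * g⁻¹) := by
  refine ⟨(hl.mul hf.1).mul hl.inv, by rw [conj_pow, hf.2.1, mul_one, mul_inv_cancel], fun m x hm hx => ?_⟩
  have h1 : g⁻¹ * x * g * t * (g⁻¹ * x * g)⁻¹ = t⁻¹ := by
    calc g⁻¹ * x * g * t * (g⁻¹ * x * g)⁻¹ = g⁻¹ * (x * (g * t * g⁻¹) * x⁻¹) * g := by group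
      _ = _ := by rw [hx]; group
  have h2 := hf.2.2 (l⁻¹ * m * l) _ ((hl.inv.mul hm).mul hl) h1
  calc m * (l * f * l⁻¹) * m⁻¹ = l * (l⁻¹ * m * l * f * (l⁻¹ * m * l)⁻¹) * l⁻¹ := by group
    _ = (l * f * l⁻¹)⁻¹ := by rw [h2]; group

theorem Good.inv {f : (Module.End K V)ˣ} {t : Alt (k + 3)} (hf : Good S f t) : Good S f⁻¹ t⁻¹ := by
  refine ⟨hf.1.inv, by rw [inv_pow, hf.2.1, inv_one], fun l x hl hx => ?_⟩
  have h := hf.2.2 l x hl (inv_injective (by rw [← hx]; group))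
  rw [show l * f⁻¹ * l⁻¹ = (l * f * l⁻¹)⁻¹ by group, h]

variable [Nontrivial V]

theorem Good.unique (hk : 6 ≤ k) {f f' : (Module.End K V)ˣ} {t : Alt (k + 3)} (ht : IsTri t)
    (hf : Good S f t) (hf' : Good S f' t) : f = f' := by
  obtain ⟨c, rfl⟩ := hf.1.exists_sc hf'.1
  obtain ⟨g, rfl⟩ := ht
  obtain ⟨x₀, hx₀, -⟩ := exists_invert_t0 hk
  obtain ⟨l, hl⟩ := S.exists_is (g * x₀ * g⁻¹)
  have hx : g * x₀ * g⁻¹ * (g * t0 k * g⁻¹) * (g * x₀ * g⁻¹)⁻¹ = (g * t0 k * g⁻¹)⁻¹ := by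
    calc _ = g * (x₀ * t0 k * x₀⁻¹) * g⁻¹ := by group
      _ = _ := by rw [hx₀]; group
  have h1 := hf.2.2 l _ hl hx
  have h2 := hf'.2.2 l _ hl hx
  rw [← mul_assoc, ← (sc_comm c l).eq, mul_assoc (sc K V c), mul_assoc (sc K V c), h1, mul_inv_rev,
    ← ((sc_comm c f).inv_inv).eq] at h2
  have hc2 : sc K V (c * c) = 1 := by
    rw [map_mul]
    nth_rewrite 2 [mul_right_cancel h2]
    exact mul_inv_cancel _
  have h3 := hf'.2.1
  rw [(sc_comm c f).mul_pow, hf.2.1, mul_one, pow_succ, pow_two, ← map_mul, hc2, one_mul] at h3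
  rw [h3, one_mul]

theorem exists_good (hk : 6 ≤ k) [IsAlgClosed K] {t : Alt (k + 3)} (ht : IsTri t) : ∃ f, Good S f t := by
  suffices h : ∃ f, Good S f (t0 k) by
    obtain ⟨g, rfl⟩ := ht
    obtain ⟨f, hf⟩ := h
    obtain ⟨l, hl⟩ := S.exists_is g
    exact ⟨_, hf.conj hl⟩
  obtain ⟨l₀, hl₀⟩ := S.exists_is (t0 k)
  obtain ⟨c, hc⟩ := Setup.Is.of_one (t0_pow_three (k := k) ▸ hl₀.pow 3)
  obtain ⟨e, he⟩ := IsAlgClosed.exists_pow_nat_eq (c : K) (show 0 < 3 by omega)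
  have he0 : e ≠ 0 := fun h => c.ne_zero (by rw [← he, h]; simp)
  set f₀ := sc K V (Units.mk0 e he0)⁻¹ * l₀ with hf₀
  have hf₀t : S.Is f₀ (t0 k) := hl₀.smul _
  have hf₀3 : f₀ ^ 3 = 1 := by
    rw [hf₀, (sc_comm _ _).mul_pow, hc, ← map_pow, ← map_mul, inv_pow,
      show Units.mk0 e he0 ^ 3 = c from Units.ext (by simpa using he), inv_mul_cancel, map_one]
  obtain ⟨x₀, hx₀, -⟩ := exists_invert_t0 hk
  obtain ⟨m, hm⟩ := S.exists_is x₀
  have h' : S.Is (m * f₀ * m⁻¹) (t0 k)⁻¹ := hx₀ ▸ (hm.mul hf₀t).mul hm.inv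
  obtain ⟨ζ, hζ⟩ := hf₀t.inv.exists_sc h'
  have hζ3 : ζ ^ 3 = 1 := by
    have e1 : (m * f₀ * m⁻¹) ^ 3 = 1 := by rw [conj_pow, hf₀3, mul_one, mul_inv_cancel]
    rw [hζ, (sc_comm _ _).mul_pow, inv_pow, hf₀3, inv_one, mul_one, ← map_pow] at e1
    exact sc_injective (by rw [e1, map_one])
  set f := sc K V ζ * f₀ with hf
  have hf3 : f ^ 3 = 1 := by rw [hf, (sc_comm _ _).mul_pow, hf₀3, mul_one, ← map_pow, hζ3, map_one]
  have hft : S.Is f (t0 k) := hf₀t.smul ζ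
  have hfm : m * f * m⁻¹ = f⁻¹ := by
    have e2 : ζ * ζ = ζ⁻¹ := eq_inv_of_mul_eq_one_left (by rw [← hζ3, pow_succ, pow_two])
    calc m * f * m⁻¹ = sc K V ζ * (m * f₀ * m⁻¹) := by
          rw [hf, ← mul_assoc, ← (sc_comm ζ m).eq]; simp only [mul_assoc]
      _ = sc K V ζ⁻¹ * f₀⁻¹ := by rw [hζ, ← mul_assoc, ← map_mul, e2]
      _ = f⁻¹ := by
          rw [hf, mul_inv_rev (sc K V ζ) f₀, map_inv]
          exact ((sc_comm ζ f₀).inv_inv).eq
  -- the centraliser acts trivially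
  have hz : ∀ a : Alt k, ∃ z : Kˣ, ∀ l, S.Is l (viaA (emb3 k) a) → l * f * l⁻¹ = sc K V z * f := by
    intro a
    obtain ⟨l, hl⟩ := S.exists_is (viaA (emb3 k) a)
    have e1 : S.Is (l * f * l⁻¹) (t0 k) := by
      have := (hl.mul hft).mul hl.inv
      rwa [(t0_comm_viaA a).eq, mul_inv_cancel_right] at this
    obtain ⟨z, hz⟩ := hft.exists_sc e1
    refine ⟨z, fun l' hl' => ?_⟩
    obtain ⟨d, rfl⟩ := hl.exists_sc hl'
    calc sc K V d * l * f * (sc K V d * l)⁻¹ = sc K V d * (l * f * l⁻¹) * (sc K V d)⁻¹ := by group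
      _ = _ := by rw [hz, (sc_comm d (sc K V z * f)).eq, mul_inv_cancel_right]
  choose z hz using hz
  let φ : Alt k →* Kˣ := MonoidHom.mk' z fun a b => by
    obtain ⟨la, hla⟩ := S.exists_is (viaA (emb3 k) a)
    obtain ⟨lb, hlb⟩ := S.exists_is (viaA (emb3 k) b)
    have h1 := hz (a * b) (la * lb) (by rw [map_mul]; exact hla.mul hlb)
    refine sc_injective (V := V) (mul_right_cancel (b := f) ?_)
    calc sc K V (z (a * b)) * f = la * (lb * f * lb⁻¹) * la⁻¹ := by rw [← h1]; group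
      _ = sc K V (z b) * (la * f * la⁻¹) := by
          rw [hz b lb hlb, ← mul_assoc la, ← (sc_comm (z b) la).eq]; simp only [mul_assoc]
      _ = sc K V (z a * z b) * f := by rw [hz a la hla, ← mul_assoc, ← map_mul, mul_comm (z b)]
  have hz1 : ∀ a, z a = 1 := fun a => hom_eq_one (by omega) φ a
  refine ⟨f, hft, hf3, fun l x hl hx => ?_⟩
  obtain ⟨i, a, hia⟩ := centralizer_t0 (k := k) (c := x₀⁻¹ * x) (by
    show x₀⁻¹ * x * t0 k = t0 k * (x₀⁻¹ * x)
    have e1 : x * t0 k = (t0 k)⁻¹ * x := mul_inv_eq_iff_eq_mul.1 hx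
    have e2 : x₀⁻¹ * (t0 k)⁻¹ = t0 k * x₀⁻¹ := by rw [← hx₀]; group
    rw [mul_assoc, e1, ← mul_assoc, e2, mul_assoc])
  obtain ⟨la, hla⟩ := S.exists_is (viaA (emb3 k) a)
  have h1 : S.Is (m⁻¹ * l) (x₀⁻¹ * x) := hm.inv.mul hl
  obtain ⟨d, hd⟩ := Setup.Is.exists_sc (hia ▸ (hft.pow i).mul hla) h1
  have hcl : Commute la f := by
    show la * f = f * la
    have := hz a la hla
    rw [hz1, map_one, one_mul] at this
    exact mul_inv_eq_iff_eq_mul.1 this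
  have hcomm : Commute (m⁻¹ * l) f := by
    rw [hd]; exact (sc_comm d f).mul_left (((Commute.refl f).pow_left i).mul_left hcl)
  calc l * f * l⁻¹ = m * ((m⁻¹ * l) * f * (m⁻¹ * l)⁻¹) * m⁻¹ := by group
    _ = m * f * m⁻¹ := by rw [hcomm.eq, mul_inv_cancel_right]
    _ = f⁻¹ := hfm

open Classical in
variable (S) in
/-- The canonical lift of a three-cycle. -/
noncomputable def T (t : Alt (k + 3)) : (Module.End K V)ˣ := if h : ∃ f, Good S f t then h.choose else 1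

variable [IsAlgClosed K] (hk : 6 ≤ k) {t : Alt (k + 3)}

include hk

theorem good_T (ht : IsTri t) : Good S (T S t) t := by
  have h := exists_good (S := S) hk ht
  rw [T, dif_pos h]
  exact h.choose_spec

theorem T_conj (ht : IsTri t) {l : (Module.End K V)ˣ} {g : Alt (k + 3)} (hl : S.Is l g) :
    l * T S t * l⁻¹ = T S (g * t * g⁻¹) :=
  ((good_T hk ht).conj hl).unique hk (ht.conj g) (good_T hk (ht.conj g))

theorem T_comm (ht : IsTri t) {l : (Module.End K V)ˣ} {g : Alt (k + 3)} (hl : S.Is l g) (hg : Commute g t) :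
    Commute l (T S t) := by
  have := T_conj hk ht hl
  rw [hg.eq, mul_inv_cancel_right] at this
  exact mul_inv_eq_iff_eq_mul.1 this

theorem IsTri.inv (ht : IsTri t) : IsTri t⁻¹ := by
  obtain ⟨x, hx, -⟩ := exists_invert_t0 hk
  obtain ⟨g, rfl⟩ := ht
  exact ⟨g * x, by rw [show (g * t0 k * g⁻¹)⁻¹ = g * (t0 k)⁻¹ * g⁻¹ by group, ← hx]; group⟩

theorem T_inv (ht : IsTri t) : T S t⁻¹ = (T S t)⁻¹ :=
  (good_T hk (ht.inv hk)).unique hk (ht.inv hk) (good_T hk ht).inv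

theorem T_pow_three (ht : IsTri t) : T S t ^ 3 = 1 := (good_T hk ht).2.1

theorem T_is (ht : IsTri t) : S.Is (T S t) t := (good_T hk ht).1

end Lifts

end CfsgLib.AltDegree
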