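import Cfsg.Agent.Lib.AltDegree.Cases
import Cfsg.Agent.Lib.AltDegree.Generic

/-!
Finite linear groups with an alternating quotient: reduction to scalar kernels.
-/

set_option autoImplicit false

namespace CfsgLib.AltDegree

open scoped commutatorElement

set_option maxHeartbeats 800000

universe u

/-- The bound in dimension `n`, over algebraically closed fields of positive characteristic. -/
def Bound (n : ℕ) : Prop :=
  ∀ (p : ℕ) [Fact p.Prime] (K : Type) [Field K] [IsAlgClosed K] [CharP K p] (V : Type) [AddCommGroup V]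
    [Module K V] [FiniteDimensional K V] (r : ℕ) (H : Subgroup (Module.End K V)ˣ) (π : H →* Alt r),
    Finite H → Function.Surjective π → 9 ≤ r → Module.finrank K V = n → bnd p r ≤ n

/-- The bound for a representation. -/
theorem Bound.of_rep {n : ℕ} (IH : Bound n) {p : ℕ} [Fact p.Prime] {K : Type} [Field K] [IsAlgClosed K]
    [CharP K p] {V : Type} [AddCommGroup V] [Module K V] [FiniteDimensional K V] {r : ℕ} {G : Type*} [Group G]
    [Finite G] (π : G →* Alt r) (hπ : Function.Surjective π) (hr : 9 ≤ r) (ρ : G →* (Module.End K V)ˣ)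
    (hker : ρ.ker ≤ π.ker) (hn : Module.finrank K V = n) : bnd p r ≤ n := by
  obtain ⟨φ, hφ⟩ := exists_range_hom π hπ ρ hker
  exact IH p K V r ρ.range φ (Finite.of_surjective _ ρ.rangeRestrict_surjective) hφ hr hn

/-- The bound for a matrix representation over a finite field. -/
theorem Bound.of_matrix {e : ℕ} (IH : Bound e) {s : ℕ} [Fact s.Prime] {F : Type u} [Field F] [Finite F]
    [CharP F s] {r : ℕ} {G : Type*} [Group G] [Finite G] (π : G →* Alt r) (hπ : Function.Surjective π)
    (hr : 9 ≤ r) (ρ : G →* GL (Fin e) F) (hker : ρ.ker ≤ π.ker) : bnd s r ≤ e := by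
  let _ := ZMod.algebra F s
  have : Module.Finite (ZMod s) F := Module.Finite.of_finite
  let ι : F →ₐ[ZMod s] AlgebraicClosure (ZMod s) := IsAlgClosed.lift
  have : CharP (AlgebraicClosure (ZMod s)) s :=
    charP_of_injective_algebraMap (algebraMap (ZMod s) (AlgebraicClosure (ZMod s))).injective s
  let f : GL (Fin e) F →* (Module.End (AlgebraicClosure (ZMod s)) (Fin e → AlgebraicClosure (ZMod s)))ˣ :=
    (Units.map (Matrix.toLinAlgEquiv' (R := AlgebraicClosure (ZMod s)) (n := Fin e)).toMonoidHom).comp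
      (Units.map (ι.toRingHom.mapMatrix (m := Fin e)).toMonoidHom)
  have hf : Function.Injective f :=
    (Units.map_injective (Matrix.toLinAlgEquiv' (R := AlgebraicClosure (ZMod s)) (n := Fin e)).injective).comp
      (Units.map_injective (Matrix.map_injective ι.toRingHom.injective))
  refine IH.of_rep π hπ hr (f.comp ρ) (fun g hg => hker ?_) (by simp)
  exact MonoidHom.mem_ker.2 (hf (by rw [map_one]; exact hg))

section Main

variable {p : ℕ} [Fact p.Prime] {K : Type} [Field K] [IsAlgClosed K] {V : Type} [AddCommGroup V]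
  [Module K V] [FiniteDimensional K V] [Nontrivial V] {r : ℕ} {H : Subgroup (Module.End K V)ˣ} [Finite H]
  {π : H →* Alt r}

/-- The underlying operator. -/
abbrev opH (h : H) : Module.End K V := ((h : (Module.End K V)ˣ) : Module.End K V)

omit [IsAlgClosed K] [FiniteDimensional K V] [Nontrivial V] [Finite H] in
theorem opH_inj {a b : H} (h : ∀ v, opH a v = opH b v) : a = b :=
  Subtype.ext (Units.ext (LinearMap.ext h))

omit [Nontrivial V] in
/-- Irreducibility makes central elements scalar. -/
theorem central_scalar (hirr : ∀ W : Submodule K V, (∀ h : H, ∀ v ∈ W, opH h v ∈ W) → W = ⊥ ∨ W = ⊤)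
    [Nontrivial V] {z : H} (hz : ∀ h, z * h = h * z) : ∃ c : Kˣ, ∀ v, opH z v = (c : K) • v := by
  obtain ⟨c, hc⟩ := Module.End.exists_eigenvalue (opH z)
  rcases hirr (Module.End.eigenspace (opH z) c) (fun h v hv => by
    rw [Module.End.mem_eigenspace_iff] at hv ⊢
    show opH (z * h) v = _
    rw [hz]
    show opH h (opH z v) = _
    rw [hv, map_smul]) with h | h
  · exact absurd h hc
  · have hv : ∀ v, opH z v = c • v := fun v =>
      Module.End.mem_eigenspace_iff.1 (h ▸ Submodule.mem_top)
    have hc0 : c ≠ 0 := by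
      rintro rfl
      obtain ⟨v, hv0⟩ := exists_ne (0 : V)
      have h1 : opH (z⁻¹ * z) v = opH z⁻¹ (opH z v) := rfl
      rw [inv_mul_cancel, hv, zero_smul, map_zero] at h1
      exact hv0 h1
    exact ⟨Units.mk0 c hc0, hv⟩

variable (hr : 9 ≤ r) (hπ : Function.Surjective π) (hnorm : ∀ N : Subgroup H, N.Normal → N ≤ π.ker ∨ N = ⊤)
  (hirr : ∀ W : Submodule K V, (∀ h : H, ∀ v ∈ W, opH h v ∈ W) → W = ⊥ ∨ W = ⊤)

include hr hπ hnorm

/-- Homomorphisms to commutative groups are trivial. -/
theorem hom_trivial {A : Type*} [CommGroup A] (φ : H →* A) (h : H) : φ h = 1 := by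
  rcases hnorm φ.ker inferInstance with hk | hk
  · exfalso
    refine not_comm_alt (r := r) (by omega) fun a b => ?_
    obtain ⟨x, rfl⟩ := hπ a
    obtain ⟨y, rfl⟩ := hπ b
    have e : (y * x)⁻¹ * (x * y) ∈ φ.ker := by
      rw [MonoidHom.mem_ker, map_mul, map_inv, map_mul, map_mul, mul_comm (φ y), inv_mul_cancel]
    have := MonoidHom.mem_ker.1 (hk e)
    rw [map_mul, map_inv, inv_mul_eq_one, map_mul, map_mul] at this
    exact this.symm
  · exact MonoidHom.mem_ker.1 (hk ▸ Subgroup.mem_top h)

include hirr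

/-- An abelian normal subgroup that is not central permutes eigenspaces. -/
theorem abelian_case {E : Subgroup H} [hEn : E.Normal] (hEz : ¬ E ≤ Subgroup.center H)
    (hcomm : ∀ a ∈ E, ∀ b ∈ E, a * b = b * a) : r - 1 ≤ Module.finrank K V := by
  classical
  let X := {χ : E → K // ∃ v ≠ (0 : V), ∀ a : E, opH (a : H) v = χ a • v}
  choose vec hvec0 hvec using fun χ : X => χ.2
  have hli := linearIndependent_of_chars (fun a : E => opH (a : H)) (fun χ : X => χ.1) Subtype.val_injective
    vec hvec0 hvec
  have : Finite X := hli.finite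
  let _ := Fintype.ofFinite X
  have hcard : Nat.card X ≤ Module.finrank K V := by
    rw [Nat.card_eq_fintype_card]; exact hli.fintype_card_le_finrank
  have hmove : ∀ (h : H) (χ : E → K) (v : V), (∀ a : E, opH (a : H) v = χ a • v) →
      ∀ a : E, opH (a : H) (opH h v) = χ (MulAut.conjNormal h⁻¹ a) • opH h v := by
    intro h χ v hv a
    rw [← map_smul, ← hv]
    show opH ((a : H) * h) v = opH (h * ((MulAut.conjNormal h⁻¹ a : E) : H)) v
    rw [MulAut.conjNormal_apply, inv_inv, ← mul_assoc, ← mul_assoc, mul_inv_cancel, one_mul]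
  have hne : ∀ (h : H) (v : V), v ≠ 0 → opH h v ≠ 0 := fun h v hv e => hv (by
    have h1 : opH (h⁻¹ * h) v = opH h⁻¹ (opH h v) := rfl
    rw [inv_mul_cancel, e, map_zero] at h1
    exact h1)
  let _ : MulAction H X :=
    { smul := fun h χ => ⟨fun a => χ.1 (MulAut.conjNormal h⁻¹ a), opH h (vec χ), hne h _ (hvec0 χ),
        hmove h χ.1 _ (hvec χ)⟩
      one_smul := fun χ => Subtype.ext (funext fun a => by
        show χ.1 (MulAut.conjNormal (1 : H)⁻¹ a) = χ.1 a
        rw [inv_one, map_one]; rfl)
      mul_smul := fun h k χ => Subtype.ext (funext fun a => by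
        show χ.1 (MulAut.conjNormal (h * k)⁻¹ a) = χ.1 (MulAut.conjNormal k⁻¹ (MulAut.conjNormal h⁻¹ a))
        rw [mul_inv_rev, map_mul]; rfl) }
  let φ := MulAction.toPermHom H X
  have hker : φ.ker ≤ π.ker := by
    rcases hnorm φ.ker inferInstance with h | h
    · exact h
    exfalso
    obtain ⟨v, hv0, χ, hχ⟩ := exists_common_eigenvector (fun a : E => opH (a : H)) (fun a b x => by
      show opH ((a : H) * (b : H)) x = opH ((b : H) * (a : H)) x
      rw [hcomm a a.2 b b.2])
    let U : Submodule K V := ⨅ a : E, Module.End.eigenspace (opH (a : H)) (χ a)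
    have hU : ∀ x, x ∈ U ↔ ∀ a : E, opH (a : H) x = χ a • x := fun x => by
      simp [U, Submodule.mem_iInf]
    have hUtop : U = ⊤ := by
      refine (hirr U fun h x hx => (hU _).2 fun a => ?_).resolve_left fun e =>
        hv0 ((Submodule.mem_bot K).1 (e ▸ (hU v).2 hχ))
      have hfix : φ h ⟨χ, v, hv0, hχ⟩ = ⟨χ, v, hv0, hχ⟩ := by
        rw [MonoidHom.mem_ker.1 ((‹φ.ker = ⊤›) ▸ Subgroup.mem_top h : h ∈ φ.ker)]; rfl
      have e := congrFun (congrArg Subtype.val hfix) a
      rw [hmove h χ x ((hU x).1 hx) a]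
      exact congrArg (· • opH h x) e
    refine hEz fun a ha => Subgroup.mem_center_iff.2 fun h => opH_inj fun x => ?_
    have e : ∀ y, opH a y = χ ⟨a, ha⟩ • y := fun y => (hU y).1 (hUtop ▸ Submodule.mem_top) ⟨a, ha⟩
    show opH h (opH a x) = opH a (opH h x)
    rw [e, e, map_smul]
  obtain ⟨ψ, hψ⟩ := exists_range_hom π hπ φ hker
  refine (le_of_card_le_factorial (r := r) (by omega) ?_).trans hcard
  refine (Nat.card_le_card_of_surjective ψ hψ).trans ?_
  refine (Nat.card_le_card_of_injective _ φ.range.subtype_injective).trans ?_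
  rw [Nat.card_perm]

/-- An extraspecial-like normal subgroup gives a representation over a prime field. -/
theorem nonabelian_case {s : ℕ} [Fact s.Prime] {n : ℕ} (hn : Module.finrank K V = n)
    (IH : ∀ e < n, Bound e) {E : Subgroup H} [hEn : E.Normal] (hEp : IsPGroup s E)
    (hEz : ¬ E ≤ Subgroup.center H) (hmin : ∀ N : Subgroup H, N.Normal → N < E → N ≤ Subgroup.center H)
    (hnc : ¬ ∀ a ∈ E, ∀ b ∈ E, a * b = b * a) : r - 1 ≤ n := by
  classical
  have : Finite E := inferInstance
  have : Group.IsNilpotent E := hEp.isNilpotent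
  have hEbot : E ≠ ⊥ := fun h => hEz (h ▸ bot_le)
  have hcom : ∀ a ∈ E, ∀ b ∈ E, ⁅a, b⁆ ∈ Subgroup.center H := by
    have : Nontrivial E := E.nontrivial_iff_ne_bot.2 hEbot
    have h1 := IsSolvable.commutator_lt_top_of_nontrivial (G := E)
    have h2 : ⁅E, E⁆ < E := by
      rw [← Subgroup.map_subtype_commutator]
      refine lt_of_le_of_ne (Subgroup.map_subtype_le _) fun h => h1.ne ?_
      refine Subgroup.map_injective E.subtype_injective ?_
      rw [h, ← MonoidHom.range_eq_map, Subgroup.range_subtype]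
    exact fun a ha b hb => hmin _ inferInstance h2 (Subgroup.commutator_mem_commutator ha hb)
  have hcen : ∀ a ∈ E, (∀ b ∈ E, b * a = a * b) → a ∈ Subgroup.center H := by
    intro a ha hab
    have hlt : E ⊓ Subgroup.centralizer E < E := by
      refine lt_of_le_of_ne inf_le_left fun h => hnc fun x hx y hy => ?_
      exact (Subgroup.mem_centralizer_iff.1 (h.symm ▸ hx : x ∈ E ⊓ Subgroup.centralizer E).2 y hy).symm
    exact hmin _ inferInstance hlt ⟨ha, Subgroup.mem_centralizer_iff.2 hab⟩
  choose cen hcenv using fun z : Subgroup.center H =>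
    central_scalar hirr (z := (z : H)) fun h => (Subgroup.mem_center_iff.1 z.2 h).symm
  have hceninj : Function.Injective cen := fun a b e => Subtype.ext (opH_inj fun v => by
    rw [hcenv, hcenv, e])
  let C : Subgroup E := (Subgroup.center H).subgroupOf E
  let Q := E ⧸ C
  have hQc : ∀ x y : Q, x * y = y * x := by
    intro x y
    induction x using QuotientGroup.induction_on with | _ x => ?_
    induction y using QuotientGroup.induction_on with | _ y => ?_
    rw [← QuotientGroup.mk_mul, ← QuotientGroup.mk_mul, QuotientGroup.eq, Subgroup.mem_subgroupOf]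
    have := hcom ((y : H)⁻¹) (E.inv_mem y.2) ((x : H)⁻¹) (E.inv_mem x.2)
    rw [commutatorElement_def, inv_inv, inv_inv] at this
    simpa [mul_assoc] using this
  letI : CommGroup Q := { (inferInstance : Group Q) with mul_comm := hQc }
  -- exponent `s`
  have hexp : ∀ x ∈ E, x ^ s ∈ Subgroup.center H := by
    have hpow : ∀ x : E, (x : H) ^ s ∈ Subgroup.center H ↔ (x : Q) ^ s = 1 := fun x => by
      rw [← QuotientGroup.mk_pow, QuotientGroup.eq_one_iff, Subgroup.mem_subgroupOf, Subgroup.coe_pow]
    let N : Subgroup H := (((powMonoidHom s : Q →* Q).comp (QuotientGroup.mk' C)).ker).map E.subtype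
    have hN : ∀ x, x ∈ N ↔ x ∈ E ∧ x ^ s ∈ Subgroup.center H := fun x => by
      constructor
      · rintro ⟨y, hy, rfl⟩
        exact ⟨y.2, (hpow y).2 hy⟩
      · rintro ⟨hx, hxs⟩
        exact ⟨⟨x, hx⟩, (hpow ⟨x, hx⟩).1 hxs, rfl⟩
    have hNn : N.Normal := ⟨fun x hx g => by
      obtain ⟨h1, h2⟩ := (hN x).1 hx
      refine (hN _).2 ⟨hEn.conj_mem x h1 g, ?_⟩
      rw [conj_pow, Subgroup.mem_center_iff.1 h2 g, mul_inv_cancel_right]
      exact h2⟩
    by_contra hne
    push Not at hne
    obtain ⟨x, hx, hxs⟩ := hne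
    have hNle := hmin N hNn (lt_of_le_of_ne (fun y hy => ((hN y).1 hy).1) fun h =>
      hxs ((hN x).1 (h.symm ▸ hx)).2)
    have hQnt : Nat.card Q ≠ 1 := fun h => hEz fun y hy => by
      have := (Nat.card_eq_one_iff_unique.1 h).1.elim ((⟨y, hy⟩ : E) : Q) 1
      rwa [QuotientGroup.eq_one_iff, Subgroup.mem_subgroupOf] at this
    obtain ⟨j, hj⟩ := (hEp.to_quotient C).exists_card_eq
    have hdvd : s ∣ Nat.card Q := by
      rw [hj]
      exact dvd_pow_self s (fun e => hQnt (by rw [hj, e, pow_zero]))
    obtain ⟨q, hq⟩ := exists_prime_orderOf_dvd_card' s hdvd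
    induction q using QuotientGroup.induction_on with | _ y => ?_
    have hy : (y : H) ∈ N := (hN _).2 ⟨y.2, (hpow y).2 (by rw [← hq, pow_orderOf_eq_one])⟩
    have : (y : Q) = 1 := by
      rw [QuotientGroup.eq_one_iff, Subgroup.mem_subgroupOf]; exact hNle hy
    rw [this, orderOf_one] at hq
    exact (Fact.out : s.Prime).one_lt.ne hq
  -- coset representatives are independent
  have hcardQ : Nat.card Q ≤ n * n := by
    let _ := Fintype.ofFinite Q
    let op : E → Module.End K (Module.End K V) := fun b =>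
      LinearMap.mulLeft K (opH (b : H)) ∘ₗ LinearMap.mulRight K (opH ((b : H)⁻¹))
    let χ : Q → E → K := fun q b =>
      (cen ⟨⁅(b : H), ((q.out : E) : H)⁆, hcom b b.2 _ (q.out : E).2⟩ : K)
    have hli := linearIndependent_of_chars op χ (fun q q' e => by
      rw [← QuotientGroup.out_eq' q, ← QuotientGroup.out_eq' q', QuotientGroup.eq, Subgroup.mem_subgroupOf]
      refine hcen _ (q.out⁻¹ * q'.out : E).2 fun b hb => ?_
      have := congrArg Subtype.val (hceninj (Units.ext (congrFun e ⟨b, hb⟩)))
      simp only [commutatorElement_def] at this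
      set a := ((q.out : E) : H) with ha
      set a' := ((q'.out : E) : H) with ha'
      show b * (a⁻¹ * a') = a⁻¹ * a' * b
      have h2 : b * a * b⁻¹ * a⁻¹ = b * a' * b⁻¹ * a'⁻¹ := this
      rw [mul_assoc b, mul_assoc b, mul_assoc b a', mul_assoc b (a' * b⁻¹), mul_right_inj] at h2
      calc b * (a⁻¹ * a') = b * a⁻¹ * a' := by group
        _ = (a * b⁻¹)⁻¹ * a' := by group
        _ = a⁻¹ * (a * b⁻¹ * a⁻¹)⁻¹ * a' := by group
        _ = a⁻¹ * a' * b := by rw [h2]; group)
      (fun q => opH ((q.out : E) : H)) (fun q h => by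
        obtain ⟨v, hv⟩ := exists_ne (0 : V)
        have h1 : opH ((((q.out : E) : H))⁻¹ * ((q.out : E) : H)) v =
          opH (((q.out : E) : H))⁻¹ (opH ((q.out : E) : H) v) := rfl
        rw [inv_mul_cancel, h, LinearMap.zero_apply, map_zero] at h1
        exact hv h1)
      (fun q b => LinearMap.ext fun v => by
        show opH (b : H) (opH ((q.out : E) : H) (opH ((b : H)⁻¹) v)) = χ q b • opH ((q.out : E) : H) v
        rw [← hcenv]
        show opH ((b : H) * ((q.out : E) : H) * (b : H)⁻¹) v =
          opH (⁅(b : H), ((q.out : E) : H)⁆ * ((q.out : E) : H)) v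
        rw [commutatorElement_def, inv_mul_cancel_right])
    have := hli.fintype_card_le_finrank
    rwa [Module.finrank_linearMap, hn, ← Nat.card_eq_fintype_card] at this
  -- the conjugation action
  obtain ⟨e, hQe, ρ, hρ⟩ := exists_matrix_rep_conj E C s hQc
    (fun x => by rw [Subgroup.mem_subgroupOf, Subgroup.coe_pow]; exact hexp _ x.2)
    (fun h x hx => by
      rw [Subgroup.mem_subgroupOf, MulAut.conjNormal_apply]
      exact (inferInstance : (Subgroup.center H).Normal).conj_mem _ (Subgroup.mem_subgroupOf.1 hx) h)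
  have hker' : ρ.ker ≤ π.ker := by
    rcases hnorm ρ.ker inferInstance with h | h
    · exact h
    exfalso
    refine hEz fun a ha => Subgroup.mem_center_iff.2 fun g => ?_
    have hmem : ∀ x : H, x * a * x⁻¹ * a⁻¹ ∈ Subgroup.center H := fun x => by
      have e' := hρ x (MonoidHom.mem_ker.1 (h ▸ Subgroup.mem_top x)) ⟨a, ha⟩
      rw [Subgroup.mem_subgroupOf] at e'
      push_cast [MulAut.conjNormal_apply] at e'
      have := (inferInstance : (Subgroup.center H).Normal).conj_mem _ e' a
      simpa [mul_assoc] using this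
    let ψ : H →* Subgroup.center H := MonoidHom.mk' (fun x => ⟨x * a * x⁻¹ * a⁻¹, hmem x⟩) fun x y => Subtype.ext (by
      show x * y * a * (x * y)⁻¹ * a⁻¹ = x * a * x⁻¹ * a⁻¹ * (y * a * y⁻¹ * a⁻¹)
      have hc := (Subgroup.mem_center_iff.1 (hmem y) (x * a * x⁻¹ * a⁻¹))
      rw [hc]
      have hc' := (Subgroup.mem_center_iff.1 (hmem y) x)
      calc x * y * a * (x * y)⁻¹ * a⁻¹ = x * (y * a * y⁻¹ * a⁻¹) * a * x⁻¹ * a⁻¹ := by group
        _ = _ := by rw [hc']; group)
    letI : CommGroup (Subgroup.center H) :=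
      { (inferInstance : Group (Subgroup.center H)) with
        mul_comm := fun x y => Subtype.ext (Subgroup.mem_center_iff.1 y.2 x) }
    have := congrArg Subtype.val (hom_trivial hr hπ hnorm ψ g)
    exact mul_inv_eq_iff_eq_mul.1 (mul_inv_eq_one.1 this)
  rcases Nat.lt_or_ge e n with hlt | hge
  · have := (le_bnd s r).trans ((IH e hlt).of_matrix π hπ hr _ hker')
    omega
  exfalso
  have h2 : 2 ^ e ≤ n * n :=
    ((Nat.pow_le_pow_left (Fact.out : s.Prime).two_le e).trans hQe.ge).trans hcardQ
  have hn4 : n ≤ 4 := by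
    by_contra hn5
    have : ∀ m, 5 ≤ m → m * m < 2 ^ m := fun m hm => by
      induction m, hm using Nat.le_induction with
      | base => decide
      | succ k hk ih => rw [pow_succ]; nlinarith
    have := this n (by omega)
    have := Nat.pow_le_pow_right (show 0 < 2 by omega) hge
    omega
  have h16 : n * n ≤ 16 := Nat.mul_le_mul hn4 hn4
  have he4 : e ≤ 4 := by
    by_contra he5
    have : 2 ^ 5 ≤ 2 ^ e := Nat.pow_le_pow_right (show 0 < 2 by omega) (by omega)
    omega
  obtain ⟨ψ, hψ⟩ := exists_range_hom π hπ _ hker'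
  have c1 := (card_alt_ge hr).trans ((Nat.card_le_card_of_surjective ψ hψ).trans
    ((Nat.card_le_card_of_injective _ ρ.range.subtype_injective).trans
      (Nat.card_le_card_of_injective _ (fun _ _ h => Units.ext h : Function.Injective
        (Units.val : GL (Fin e) (ZMod s) → Matrix (Fin e) (Fin e) (ZMod s))))))
  have c2 : Nat.card (Matrix (Fin e) (Fin e) (ZMod s)) = (s ^ e) ^ e := by
    simp [Matrix, Nat.card_fun, ← pow_mul]
  have c3 : (s ^ e) ^ e ≤ 16 ^ 4 :=
    (Nat.pow_le_pow_left ((hQe.ge.trans hcardQ).trans h16) e).trans (Nat.pow_le_pow_right (by omega) he4)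
  omega

end Main

/-- The bound, for a group that is minimal with alternating quotient. -/
theorem bound_minimal {n : ℕ} (IH : ∀ e < n, Bound e) {p : ℕ} [Fact p.Prime] {K : Type} [Field K]
    [IsAlgClosed K] [CharP K p] {V : Type} [AddCommGroup V] [Module K V] [FiniteDimensional K V] {r : ℕ}
    {H : Subgroup (Module.End K V)ˣ} [Finite H] {π : H →* Alt r} (hπ : Function.Surjective π) (hr : 9 ≤ r)
    (hn : Module.finrank K V = n) (hmin : ∀ M : Subgroup H, M.map π = ⊤ → M = ⊤) : bnd p r ≤ n := by
  classical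
  rcases subsingleton_or_nontrivial V with hV | hV
  · exfalso
    refine not_comm_alt (r := r) (by omega) fun a b => ?_
    obtain ⟨x, rfl⟩ := hπ a
    obtain ⟨y, rfl⟩ := hπ b
    rw [show x = y from opH_inj fun v => Subsingleton.elim _ _]
  have : IsSimpleGroup (Alt r) := alternatingGroup.isSimpleGroup (by simp; omega)
  have hnorm : ∀ N : Subgroup H, N.Normal → N ≤ π.ker ∨ N = ⊤ := fun N hN => by
    rcases (hN.map π hπ).eq_bot_or_eq_top with h | h
    · exact Or.inl ((Subgroup.map_eq_bot_iff N).1 h)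
    · exact Or.inr (hmin N h)
  by_cases hirr : ∀ W : Submodule K V, (∀ h : H, ∀ v ∈ W, opH h v ∈ W) → W = ⊥ ∨ W = ⊤
  swap
  · push Not at hirr
    obtain ⟨W, hW, hW0, hW1⟩ := hirr
    let ρW : H →* Module.End K W :=
      { toFun := fun h => (opH h).restrict (hW h)
        map_one' := by ext v; rfl
        map_mul' := fun a b => by ext v; rfl }
    let ρQ : H →* Module.End K (V ⧸ W) :=
      { toFun := fun h => W.mapQ W (opH h) (hW h)
        map_one' := Submodule.linearMap_qext _ rfl
        map_mul' := fun a b => Submodule.linearMap_qext _ rfl }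
    have hlW : Module.finrank K W < n := hn ▸ Submodule.finrank_lt hW1
    have hlQ : Module.finrank K (V ⧸ W) < n := by
      have := W.finrank_quotient_add_finrank
      have : 0 < Module.finrank K W :=
        (Submodule.one_le_finrank_iff.2 hW0)
      omega
    rcases hnorm ρW.toHomUnits.ker inferInstance with h1 | h1
    · exact ((IH _ hlW).of_rep π hπ hr _ h1 rfl).trans hlW.le
    rcases hnorm ρQ.toHomUnits.ker inferInstance with h2 | h2
    · exact ((IH _ hlQ).of_rep π hπ hr _ h2 rfl).trans hlQ.le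
    exfalso
    have e1 : ∀ (x : H), ∀ w ∈ W, opH x w = w := fun x w hw =>
      congrArg (fun f : (Module.End K W)ˣ => ((f : Module.End K W) ⟨w, hw⟩ : V))
        (MonoidHom.mem_ker.1 (h1 ▸ Subgroup.mem_top x : x ∈ ρW.toHomUnits.ker))
    have e2 : ∀ (x : H) (v : V), opH x v - v ∈ W := fun x v =>
      (Submodule.Quotient.eq W).1
        (congrArg (fun f : (Module.End K (V ⧸ W))ˣ => (f : Module.End K (V ⧸ W)) (Submodule.Quotient.mk v))
          (MonoidHom.mem_ker.1 (h2 ▸ Subgroup.mem_top x : x ∈ ρQ.toHomUnits.ker)))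
    refine not_comm_alt (r := r) (by omega) fun a b => ?_
    obtain ⟨x, rfl⟩ := hπ a
    obtain ⟨y, rfl⟩ := hπ b
    refine Commute.map (show x * y = y * x from opH_inj fun v => ?_) π
    show opH x (opH y v) = opH y (opH x v)
    have f1 := e1 x _ (e2 y v)
    have f2 := e1 y _ (e2 x v)
    rw [map_sub] at f1 f2
    linear_combination (norm := abel) f1 - f2
  by_cases hcent : π.ker ≤ Subgroup.center H
  · have hker : ∀ h : H, π h = 1 → ∃ c : Kˣ, (h : (Module.End K V)ˣ) = sc K V c := fun h hh => by
      obtain ⟨c, hc⟩ := central_scalar hirr (z := h) fun g => (Subgroup.mem_center_iff.1 (hcent hh) g).symm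
      exact ⟨c, Units.ext (LinearMap.ext fun v => by rw [sc_apply]; exact hc v)⟩
    obtain ⟨k, rfl⟩ : ∃ k, r = k + 3 := ⟨r - 3, by omega⟩
    let S : Setup K V (k + 3) := ⟨H, inferInstance, π, hπ, hker, hirr⟩
    refine hn ▸ setup_bound (S := S) (p := p) (by omega) fun h9 W hW1 hWZ hWne => ?_
    obtain ⟨H', φ, hfin, hφ⟩ := exists_group_of_not_trivial3 (by omega) hWZ hWne
    exact IH _ (hn ▸ Submodule.finrank_lt hW1) p K W k H' φ hfin hφ h9 rfl
  -- a minimal non-central normal subgroup of the kernel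
  have hfr : π.ker ≤ frattini H := by
    rw [frattini, Order.radical]
    refine le_iInf₂ fun M hM => ?_
    by_contra hle
    have hlt : M < M ⊔ π.ker := lt_of_le_of_ne le_sup_left fun h => hle (h ▸ le_sup_right)
    have h1 := congrArg (Subgroup.map π) (hM.2 _ hlt)
    rw [Subgroup.map_sup, (Subgroup.map_eq_bot_iff _).2 le_rfl, sup_bot_eq,
      Subgroup.map_top_of_surjective π hπ] at h1
    exact hM.1 (hmin M h1)
  have hnil : Group.IsNilpotent π.ker := by
    have := frattini_nilpotent (G := H)
    exact Group.nilpotent_of_mulEquiv (Subgroup.subgroupOfEquivOfLe hfr)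
  obtain ⟨s, hs, P, hP⟩ : ∃ (s : ℕ) (_ : Fact s.Prime) (P : Sylow s π.ker),
      ¬ (P : Subgroup π.ker).map π.ker.subtype ≤ Subgroup.center H := by
    by_contra hall
    push Not at hall
    refine hcent fun x hx => ?_
    have hC : ((Subgroup.center H).subgroupOf π.ker).index = 1 := by
      rw [Nat.eq_one_iff_not_exists_prime_dvd]
      intro q hq hdvd
      have : Fact q.Prime := ⟨hq⟩
      let P : Sylow q π.ker := default
      exact P.not_dvd_index (hdvd.trans (Subgroup.index_dvd_of_le fun y hy =>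
        hall q ⟨hq⟩ P (Subgroup.mem_map_of_mem _ hy)))
    exact Subgroup.mem_subgroupOf.1 ((Subgroup.index_eq_one.1 hC).symm ▸ Subgroup.mem_top (⟨x, hx⟩ : π.ker))
  have hPn : ((P : Subgroup π.ker)).Normal :=
    (((Group.isNilpotent_of_finite_tfae (G := π.ker)).out 0 3) : Group.IsNilpotent π.ker ↔
      ∀ (q : ℕ) (_ : Fact q.Prime) (P : Sylow q π.ker), (P : Subgroup π.ker).Normal).1 hnil s hs P
  have := Sylow.characteristic_of_normal P hPn
  obtain ⟨E, ⟨hEn, hEk, hEz, hEp⟩, hEmin⟩ := wellFounded_lt.has_min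
    {N : Subgroup H | N.Normal ∧ N ≤ π.ker ∧ ¬ N ≤ Subgroup.center H ∧ IsPGroup s N}
    ⟨_, inferInstance, Subgroup.map_subtype_le _, hP, P.isPGroup'.map _⟩
  have hEm : ∀ N : Subgroup H, N.Normal → N < E → N ≤ Subgroup.center H := fun N hN hlt => by
    by_contra h
    exact hEmin N ⟨hN, hlt.le.trans hEk, h, hEp.to_le hlt.le⟩ hlt
  refine (bnd_le p r).trans ?_
  by_cases hc : ∀ a ∈ E, ∀ b ∈ E, a * b = b * a
  · exact hn ▸ abelian_case hr hπ hnorm hirr hEz hc
  · exact nonabelian_case hr hπ hnorm hirr hn IH hEp hEz hEm hc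

/-- The bound in every dimension. -/
theorem bound_all (n : ℕ) : Bound n := by
  induction n using Nat.strong_induction_on with
  | _ n IH =>
    intro p _ K _ _ _ V _ _ _ r H π hfin hπ hr hn
    have main : ∀ (c : ℕ) (H : Subgroup (Module.End K V)ˣ) (π : H →* Alt r), Finite H → Nat.card H = c →
        Function.Surjective π → bnd p r ≤ n := by
      intro c
      induction c using Nat.strong_induction_on with
      | _ c ihc =>
        intro H π hfin hc hπ
        by_cases hmin : ∀ M : Subgroup H, M.map π = ⊤ → M = ⊤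
        · exact bound_minimal IH hπ hr hn hmin
        push Not at hmin
        obtain ⟨M, hM, hMt⟩ := hmin
        let i := Subgroup.equivMapOfInjective M H.subtype H.subtype_injective
        have : Finite (M.map H.subtype) := Finite.of_equiv _ i.toEquiv
        refine ihc _ ?_ (M.map H.subtype) ((π.comp M.subtype).comp i.symm.toMonoidHom) inferInstance rfl ?_
        · rw [← hc, ← Nat.card_congr i.toEquiv]
          exact Nat.lt_of_le_of_ne (Subgroup.card_le_card_group M) fun h => hMt (Subgroup.eq_top_of_card_eq M h)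
        · refine Function.Surjective.comp (g := π.comp M.subtype) (fun a => ?_) i.symm.surjective
          obtain ⟨x, hx, hxa⟩ := (hM.symm ▸ Subgroup.mem_top a : a ∈ M.map π)
          exact ⟨⟨x, hx⟩, hxa⟩
    exact main _ H π hfin rfl hπ

end CfsgLib.AltDegree
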