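import Cfsg.Agent.Lib.AltDegree.Proj

/-!
Subspaces invariant under the lifts of a point stabiliser; the sign of a pair of lifts.
-/

set_option autoImplicit false
set_option linter.unusedSectionVars false

namespace CfsgLib.AltDegree

open Equiv

variable {K : Type*} [Field K] [IsAlgClosed K] {V : Type*} [AddCommGroup V] [Module K V] [Nontrivial V]
  {k : ℕ} {S : Setup K V (k + 3)}

/-- The value of a lift on a vector. -/
abbrev act (f : (Module.End K V)ˣ) : Module.End K V := (f : Module.End K V)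

/-- Nine named points. -/
def q9 (hk : 6 ≤ k) : Fin 9 ↪ Fin (k + 3) := Fin.castLEEmb (by omega)

theorem t0_eq (hk : 6 ≤ k) : viaA (q9 hk) (tri 0 1 2) = t0 k := by
  rw [viaA_tri (q9 hk) (by decide) (by decide) (by decide)]; rfl

theorem isTri_q9 (hk : 6 ≤ k) {a b c : Fin 9} (hab : a ≠ b) (hbc : b ≠ c) (hac : a ≠ c) :
    IsTri (tri (q9 hk a) (q9 hk b) (q9 hk c)) :=
  isTri_tri (by omega) ((q9 hk).injective.ne hab) ((q9 hk).injective.ne hbc) ((q9 hk).injective.ne hac)

theorem exists_tri {n : ℕ} {g : Alt n} (hg : (g : Perm (Fin n)).IsThreeCycle) :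
    ∃ a b c : Fin n, a ≠ b ∧ b ≠ c ∧ a ≠ c ∧ g = tri a b c := by
  obtain ⟨a, ha⟩ := hg.isCycle.nonempty_support
  have hn := hg.nodup_iff_mem_support.2 ha
  simp only [List.nodup_cons, List.mem_cons, List.not_mem_nil, or_false, not_or] at hn
  exact ⟨a, _, _, hn.1.1, hn.2.1, hn.1.2,
    Subtype.ext (by rw [tri_val hn.1.1 hn.2.1]; exact hg.eq_swap_mul_swap_iff_mem_support.2 ha)⟩

/-- Three-cycles generate. -/
theorem induction_tri {n : ℕ} {p : Alt n → Prop} (h1 : p 1) (hmul : ∀ x y, p x → p y → p (x * y))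
    (htri : ∀ a b c : Fin n, a ≠ b → b ≠ c → a ≠ c → p (tri a b c)) (g : Alt n) : p g := by
  have hg : g ∈ Subgroup.closure {g : Alt n | Perm.IsThreeCycle (g : Perm (Fin n))} := by
    rw [alternatingGroup.closure_isThreeCycles_eq_top]; trivial
  induction hg using Subgroup.closure_induction'' with
  | mem x hx =>
    obtain ⟨a, b, c, hab, hbc, hac, rfl⟩ := exists_tri hx
    exact htri a b c hab hbc hac
  | inv_mem x hx =>
    obtain ⟨a, b, c, hab, hbc, hac, rfl⟩ := exists_tri hx
    rw [tri_inv hab hbc]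
    exact htri c b a hbc.symm hab.symm hac.symm
  | one => exact h1
  | mul x y _ _ hx hy => exact hmul x y hx hy

/-- A subspace invariant under all three-cycle lifts is invariant under the whole group. -/
theorem eq_bot_or_top (hk : 6 ≤ k) (W : Submodule K V)
    (h : ∀ t, IsTri t → ∀ v ∈ W, act (T S t) v ∈ W) : W = ⊥ ∨ W = ⊤ := by
  have key : ∀ g, ∀ l, S.Is l g → ∀ v ∈ W, act l v ∈ W := by
    refine induction_tri (p := fun g => ∀ l, S.Is l g → ∀ v ∈ W, act l v ∈ W) ?_ ?_ ?_
    · intro l hl v hv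
      obtain ⟨c, rfl⟩ := hl.of_one
      exact W.smul_mem _ hv
    · intro x y hx hy l hl v hv
      obtain ⟨a, ha⟩ := S.exists_is x
      have := hy (a⁻¹ * l) (by simpa using ha.inv.mul hl) v hv
      have e : act l v = act a (act (a⁻¹ * l) v) := by
        simp [act, ← Module.End.mul_apply]
      rw [e]
      exact hx a ha _ this
    · intro a b c hab hbc hac l hl v hv
      have ht := isTri_tri (k := k) (by omega) hab hbc hac
      obtain ⟨d, rfl⟩ := (T_is hk ht).exists_sc hl
      exact W.smul_mem _ (h _ ht v hv)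
  exact S.irr W fun g v hv => key (S.π g) _ ⟨g, 1, rfl, by rw [map_one, one_mul]⟩ v hv

/-- `W` is invariant under the lifts of the stabiliser of `0, 1, 2`. -/
def InvZ (S : Setup K V (k + 3)) (W : Submodule K V) : Prop :=
  ∀ a : Alt k, ∀ l, S.Is l (viaA (emb3 k) a) → ∀ v ∈ W, act l v ∈ W

/-- `a` acts as a scalar on `W`. -/
def ScalarOn (S : Setup K V (k + 3)) (W : Submodule K V) (a : Alt k) : Prop :=
  ∃ l, S.Is l (viaA (emb3 k) a) ∧ ∃ c : K, ∀ v ∈ W, act l v = c • v

theorem isTri_viaA (hk : 6 ≤ k) {a b c : Fin k} (hab : a ≠ b) (hbc : b ≠ c) (hac : a ≠ c) :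
    IsTri (viaA (emb3 k) (tri a b c)) := by
  rw [viaA_tri _ hab hbc hac]
  exact isTri_tri (by omega) ((emb3 k).injective.ne hab) ((emb3 k).injective.ne hbc) ((emb3 k).injective.ne hac)

/-- All three-cycle lifts of the stabiliser are trivial on `W`. -/
def Trivial3 (S : Setup K V (k + 3)) (W : Submodule K V) : Prop :=
  ∀ a b c : Fin k, a ≠ b → b ≠ c → a ≠ c → ∀ v ∈ W, act (T S (viaA (emb3 k) (tri a b c))) v = v

/-- If one non-trivial element acts as a scalar then all three-cycles act trivially. -/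
theorem trivial3_of_scalar (hk : 6 ≤ k) {W : Submodule K V} (hW : InvZ S W) {a : Alt k} (ha : a ≠ 1)
    (hs : ScalarOn S W a) : Trivial3 S W := by
  have hinv : ∀ (b : Alt k) l, S.Is l (viaA (emb3 k) b) → ∀ v ∈ W, act l⁻¹ v ∈ W := fun b l hl v hv =>
    hW b⁻¹ l⁻¹ (by rw [map_inv]; exact hl.inv) v hv
  let N : Subgroup (Alt k) :=
    { carrier := {b | ScalarOn S W b}
      one_mem' := ⟨1, by rw [map_one]; simpa using S.is_sc 1, 1, fun v _ => by simp [act]⟩
      mul_mem' := by
        rintro b b' ⟨l, hl, c, hc⟩ ⟨l', hl', c', hc'⟩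
        refine ⟨l * l', by rw [map_mul]; exact hl.mul hl', c * c', fun v hv => ?_⟩
        show act l (act l' v) = _
        rw [hc' v hv, map_smul, hc v hv, smul_smul, mul_comm]
      inv_mem' := by
        rintro b ⟨l, hl, c, hc⟩
        refine ⟨l⁻¹, by rw [map_inv]; exact hl.inv, c⁻¹, fun v hv => ?_⟩
        have h1 := hc (act l⁻¹ v) (hinv b l hl v hv)
        have e : act l (act l⁻¹ v) = v := by simp [act, ← Module.End.mul_apply]
        rw [e] at h1
        rcases eq_or_ne c 0 with h0 | h0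
        · rw [h0, zero_smul] at h1; rw [h1]; simp
        · conv_rhs => rw [h1, smul_smul, inv_mul_cancel₀ h0, one_smul] }
  have hN : N.Normal := ⟨fun b hb g => by
    obtain ⟨l, hl, c, hc⟩ := hb
    obtain ⟨m, hm⟩ := S.exists_is (viaA (emb3 k) g)
    refine ⟨m * l * m⁻¹, by rw [map_mul, map_mul, map_inv]; exact (hm.mul hl).mul hm.inv, c, fun v hv => ?_⟩
    show act m (act l (act m⁻¹ v)) = _
    rw [hc _ (hinv g m hm v hv), map_smul]
    simp [act, ← Module.End.mul_apply]⟩
  have : IsSimpleGroup (Alt k) := alternatingGroup.isSimpleGroup (by simp; omega)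
  have htop : N = ⊤ := by
    rcases hN.eq_bot_or_eq_top with h | h
    · exact absurd (Subgroup.mem_bot.1 (h ▸ (hs : a ∈ N))) ha
    · exact h
  intro x y z hxy hyz hxz v hv
  obtain ⟨g, hg⟩ := exists_conj_tri (n := k) (by omega) hxy hyz hxz hyz.symm hxy.symm hxz.symm
  rw [← tri_inv hxy hyz] at hg
  set t := viaA (emb3 k) (tri x y z) with ht
  have htT : IsTri t := isTri_viaA hk hxy hyz hxz
  obtain ⟨l, hl, c, hc⟩ : ScalarOn S W g := (htop ▸ Subgroup.mem_top g : g ∈ N)
  obtain ⟨m, hm, d, hd⟩ : ScalarOn S W (tri x y z) := (htop ▸ Subgroup.mem_top _ : tri x y z ∈ N)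
  obtain ⟨e, he⟩ := hm.exists_sc (T_is hk htT)
  have hTs : ∀ v ∈ W, act (T S t) v = ((e : K) * d) • v := fun v hv => by
    rw [he]
    show (e : K) • act m v = _
    rw [hd v hv, smul_smul]
  have hrel := T_conj hk htT hl
  rw [ht, ← map_mul, ← map_inv, ← map_mul, hg, map_inv, T_inv hk htT] at hrel
  rcases eq_or_ne v 0 with h0 | h0
  · simp [h0]
  have h1 : act (T S t) (act (T S t) v) = v := by
    have e1 : act (l * T S t * l⁻¹) v = act (T S t) v := by
      show act l (act (T S t) (act l⁻¹ v)) = _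
      rw [hTs _ (hinv g l hl v hv), map_smul, hTs v hv]
      simp [act, ← Module.End.mul_apply]
    rw [hrel] at e1
    rw [← e1]
    simp [act, ← Module.End.mul_apply]
  have h3 : act (T S t) (act (T S t) (act (T S t) v)) = v := by
    have := congrArg (fun f : (Module.End K V)ˣ => act f v) (T_pow_three hk htT (S := S))
    simpa [act, pow_succ] using this
  rw [h1] at h3
  exact h3

/-- A finite group on `W` with quotient `Alt k`, unless the three-cycles are trivial there. -/
theorem exists_group_of_not_trivial3 (hk : 6 ≤ k) {W : Submodule K V} (hW : InvZ S W) (hne : ¬ Trivial3 S W) :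
    ∃ (H : Subgroup (Module.End K W)ˣ) (φ : H →* Alt k), Finite H ∧ Function.Surjective φ := by
  let H₁ : Subgroup S.H := (viaA (emb3 k) : Alt k →* Alt (k + 3)).range.comap S.π
  have hmem : ∀ h : H₁, ∀ v ∈ W, act ((h : S.H) : (Module.End K V)ˣ) v ∈ W := fun h v hv => by
    obtain ⟨a, ha⟩ := h.2
    exact hW a _ ⟨h, 1, ha.symm, by rw [map_one, one_mul]⟩ v hv
  let ρ₀ : H₁ →* Module.End K W :=
    { toFun := fun h => (act ((h : S.H) : (Module.End K V)ˣ)).restrict (hmem h)
      map_one' := by ext v; rfl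
      map_mul' := fun a b => by ext v; rfl }
  let ρ := ρ₀.toHomUnits
  have hex : ∀ h : H₁, ∃ a : Alt k, viaA (emb3 k) a = S.π h := fun h => h.2
  choose ψ hψ using hex
  let ψ' : H₁ →* Alt k := MonoidHom.mk' ψ fun a b => viaA_injective _ (by
    rw [hψ, map_mul, hψ, hψ, Subgroup.coe_mul, map_mul])
  have hker : ρ.ker ≤ ψ'.ker := by
    intro h hh
    rw [MonoidHom.mem_ker] at hh ⊢
    by_contra hne'
    refine hne (trivial3_of_scalar hk hW hne' ⟨_, ⟨h, 1, (hψ h).symm, by rw [map_one, one_mul]⟩, 1, fun v hv => ?_⟩)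
    have := congrArg (fun f : (Module.End K W)ˣ => ((f : Module.End K W) ⟨v, hv⟩ : V)) hh
    rw [one_smul]
    exact this
  let φ : ρ.range →* Alt k :=
    (QuotientGroup.lift ρ.ker ψ' hker).comp (QuotientGroup.quotientKerEquivRange ρ).symm.toMonoidHom
  have := S.finite
  refine ⟨ρ.range, φ, Finite.of_surjective _ ρ.rangeRestrict_surjective, fun a => ?_⟩
  obtain ⟨h, hh⟩ := S.surj (viaA (emb3 k) a)
  let h₁ : H₁ := ⟨h, a, hh.symm⟩
  refine ⟨QuotientGroup.quotientKerEquivRange ρ (h₁ : H₁ ⧸ ρ.ker), ?_⟩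
  simp only [φ, MonoidHom.comp_apply, MulEquiv.coe_toMonoidHom, MulEquiv.symm_apply_apply,
    QuotientGroup.lift_mk]
  exact viaA_injective _ ((hψ h₁).trans hh)

/-- The sign of a pair of lifts. -/
theorem exists_eps (hk : 6 ≤ k) : ∃ ε : Kˣ, ε * ε = 1 ∧
    ∀ i j : Fin (k + 3), i ≠ j → i ≠ q9 hk 0 → i ≠ q9 hk 1 → j ≠ q9 hk 0 → j ≠ q9 hk 1 →
      (T S (tri (q9 hk 0) (q9 hk 1) i) * T S (tri (q9 hk 0) (q9 hk 1) j)) ^ 2 = sc K V ε := by
  set p := q9 hk with hp
  set a := tri (p 0) (p 1) (p 2) with ha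
  set b := tri (p 0) (p 1) (p 3) with hb
  have hta : IsTri a := isTri_q9 hk (by decide) (by decide) (by decide)
  have htb : IsTri b := isTri_q9 hk (by decide) (by decide) (by decide)
  have h9 : (tri 0 1 2 * tri 0 1 3 : Alt 9) ^ 2 = 1 := by decide
  have hab : (a * b) ^ 2 = 1 := by
    have e := congrArg (viaA p) h9
    rw [map_pow, map_mul, map_one, viaA_tri p (by decide) (by decide) (by decide),
      viaA_tri p (by decide) (by decide) (by decide)] at e
    exact e
  obtain ⟨ε, hε⟩ := Setup.Is.of_one (hab ▸ ((T_is (S := S) hk hta).mul (T_is hk htb)).pow 2)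
  have h2 : (T S b * T S a) ^ 2 = sc K V ε := by
    calc (T S b * T S a) ^ 2 = (T S a)⁻¹ * (T S a * T S b) ^ 2 * T S a := by
          simp only [pow_two]; group
      _ = sc K V ε := by rw [hε, mul_assoc, (sc_comm ε (T S a)).eq, inv_mul_cancel_left]
  -- move `(a, b)` to `(a⁻¹, b⁻¹)`
  let g9 : Alt 9 := ⟨swap 0 1 * swap 4 5, Perm.mem_alternatingGroup.2 (by decide)⟩
  have hg9 : g9 * tri 0 1 2 * g9⁻¹ = (tri 0 1 2)⁻¹ ∧ g9 * tri 0 1 3 * g9⁻¹ = (tri 0 1 3)⁻¹ := by decide
  obtain ⟨l, hl⟩ := S.exists_is (viaA p g9)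
  have e1 : l * T S a * l⁻¹ = (T S a)⁻¹ := by
    rw [T_conj hk hta hl, ← T_inv hk hta, ha, ← viaA_tri p (by decide : (0 : Fin 9) ≠ 1) (by decide) (by decide),
      ← map_inv, ← map_inv, ← map_mul, ← map_mul, hg9.1]
  have e2 : l * T S b * l⁻¹ = (T S b)⁻¹ := by
    rw [T_conj hk htb hl, ← T_inv hk htb, hb, ← viaA_tri p (by decide : (0 : Fin 9) ≠ 1) (by decide) (by decide),
      ← map_inv, ← map_inv, ← map_mul, ← map_mul, hg9.2]
  have h3 : sc K V ε = sc K V ε⁻¹ := by
    have : l * (T S a * T S b) ^ 2 * l⁻¹ = ((T S b * T S a) ^ 2)⁻¹ := by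
      rw [← conj_pow, show l * (T S a * T S b) * l⁻¹ = (l * T S a * l⁻¹) * (l * T S b * l⁻¹) by group, e1, e2,
        ← inv_pow, mul_inv_rev]
    rwa [hε, h2, ← (sc_comm ε l).eq, mul_inv_cancel_right, ← map_inv] at this
  refine ⟨ε, ?_, fun i j hij hi0 hi1 hj0 hj1 => ?_⟩
  · have e := sc_injective h3
    nth_rewrite 2 [e]
    exact mul_inv_cancel _
  · obtain ⟨g, hg⟩ := exists_map (n := k + 3) (j := 4) (by omega) (u := ![p 0, p 1, p 2, p 3])
      (v := ![p 0, p 1, i, j])
      (by
        have : (![p 0, p 1, p 2, p 3] : Fin 4 → Fin (k + 3)) = fun x => p (![0, 1, 2, 3] x) := by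
          funext x; fin_cases x <;> rfl
        rw [this]
        exact p.injective.comp (by decide))
      (by
        have n01 : p 0 ≠ p 1 := p.injective.ne (by decide)
        intro x y h
        fin_cases x <;> fin_cases y <;> first
          | rfl
          | exact absurd h n01 | exact absurd h.symm n01
          | exact absurd h hij | exact absurd h.symm hij
          | exact absurd h hi0 | exact absurd h.symm hi0
          | exact absurd h hi1 | exact absurd h.symm hi1
          | exact absurd h hj0 | exact absurd h.symm hj0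
          | exact absurd h hj1 | exact absurd h.symm hj1)
    have g0 := hg 0
    have g1 := hg 1
    have g2 := hg 2
    have g3 := hg 3
    simp only [Matrix.cons_val_zero, Matrix.cons_val_one, Matrix.cons_val] at g0 g1 g2 g3
    have n01 : p 0 ≠ p 1 := p.injective.ne (by decide)
    obtain ⟨m, hm⟩ := S.exists_is g
    have f1 := T_conj hk hta hm
    have f2 := T_conj hk htb hm
    rw [ha, tri_conj g n01 (p.injective.ne (by decide)), g0, g1, g2, ← ha] at f1
    rw [hb, tri_conj g n01 (p.injective.ne (by decide)), g0, g1, g3, ← hb] at f2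
    rw [← f1, ← f2, show m * T S a * m⁻¹ * (m * T S b * m⁻¹) = m * (T S a * T S b) * m⁻¹ by group,
      conj_pow, hε, ← (sc_comm ε m).eq, mul_inv_cancel_right]

end CfsgLib.AltDegree
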