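import Cfsg.Agent.Lib.AltDegree.Gen

/-!
When disjoint three-cycles act trivially on each other's commutator spaces, the space contains the
heart of the permutation module.
-/

set_option autoImplicit false
set_option linter.unusedSectionVars false

namespace CfsgLib.AltDegree

open Equiv

variable {K : Type*} [Field K] [IsAlgClosed K] {V : Type*} [AddCommGroup V] [Module K V] [Nontrivial V]
  [FiniteDimensional K V] {k : ℕ} {S : Setup K V (k + 3)}

/-- The commutator space of a three-cycle. -/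
noncomputable def mov (S : Setup K V (k + 3)) (t : Alt (k + 3)) : Submodule K V :=
  LinearMap.range (act (T S t) - 1)

theorem mul_apply' (f g : (Module.End K V)ˣ) (v : V) : act (f * g) v = act f (act g v) := rfl

theorem mem_mov_conj (hk : 6 ≤ k) {t g : Alt (k + 3)} (ht : IsTri t) {l : (Module.End K V)ˣ}
    (hl : S.Is l g) {v : V} (hv : v ∈ mov S t) : act l v ∈ mov S (g * t * g⁻¹) := by
  obtain ⟨w, rfl⟩ := hv
  refine ⟨act l w, ?_⟩
  rw [← T_conj hk ht hl]
  show act (l * T S t * l⁻¹) (act l w) - act l w = act l (act (T S t) w - w)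
  rw [map_sub, ← mul_apply', inv_mul_cancel_right, mul_apply']

theorem exists_point {n : ℕ} (hn : 7 ≤ n) (a b c d e : Fin n) :
    ∃ x, x ≠ a ∧ x ≠ b ∧ x ≠ c ∧ x ≠ d ∧ x ≠ e := by
  obtain ⟨x, hx⟩ := exists_notMem (s := ({a, b, c, d, e} : Finset (Fin n)))
    (lt_of_le_of_lt Finset.card_le_five (by omega))
  simp only [Finset.mem_insert, Finset.mem_singleton, not_or] at hx
  exact ⟨x, hx⟩

theorem pairSwap_conj :
    (tri 0 1 3 * (tri 0 1 2)⁻¹ * tri 0 1 3 : Alt 9) * tri 0 1 2 *
        (tri 0 1 3 * (tri 0 1 2)⁻¹ * tri 0 1 3)⁻¹ = (tri 0 1 3)⁻¹ ∧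
      (tri 0 1 3 * (tri 0 1 2)⁻¹ * tri 0 1 3 : Alt 9) * tri 0 1 3 *
        (tri 0 1 3 * (tri 0 1 2)⁻¹ * tri 0 1 3)⁻¹ = (tri 0 1 2)⁻¹ := by decide

theorem mov_inv (hk : 6 ≤ k) {t : Alt (k + 3)} (ht : IsTri t) : mov S t⁻¹ = mov S t := by
  have key : ∀ u : Alt (k + 3), IsTri u → mov S u⁻¹ ≤ mov S u := by
    rintro u hu _ ⟨w, rfl⟩
    refine ⟨-(act (T S u)⁻¹ w), ?_⟩
    rw [T_inv hk hu]
    show act (T S u) (-(act (T S u)⁻¹ w)) - -(act (T S u)⁻¹ w) = act (T S u)⁻¹ w - w
    rw [map_neg, ← mul_apply', mul_inv_cancel]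
    show -w - -(act (T S u)⁻¹ w) = _
    abel
  refine le_antisymm (key t ht) ?_
  simpa using key t⁻¹ (ht.inv hk)

theorem T_rotate (hk : 6 ≤ k) {a b c : Fin (k + 3)} (hab : a ≠ b) (hbc : b ≠ c) (hac : a ≠ c) :
    T S (tri a b c) = T S (tri b c a) := by rw [← tri_rotate hab hbc hac]

variable (hk : 6 ≤ k) (hC : Trivial3 S (mov S (t0 k)))

include hk hC

theorem fix_of_disjoint {a b c d e f : Fin (k + 3)} (h : [a, b, c, d, e, f].Nodup) {v : V}
    (hv : v ∈ mov S (tri a b c)) : act (T S (tri d e f)) v = v := by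
  set p := q9 hk with hp
  have hinj : Function.Injective ![a, b, c, d, e, f] := by
    have := List.nodup_iff_injective_get.1 h
    intro x y hxy
    fin_cases x <;> fin_cases y <;> simp_all
  obtain ⟨g, hg⟩ := exists_map (n := k + 3) (j := 6) (by omega) (u := ![a, b, c, d, e, f])
    (v := fun i => p ⟨i, by omega⟩) hinj
    (fun x y hxy => Fin.ext (by simpa using congrArg Fin.val (p.injective hxy)))
  simp only [List.nodup_cons, List.mem_cons, List.not_mem_nil, or_false, not_or] at h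
  obtain ⟨l, hl⟩ := S.exists_is g
  have e1 : g * tri a b c * g⁻¹ = t0 k := by
    rw [tri_conj g h.1.1 h.2.1.1]
    have g0 := hg 0; have g1 := hg 1; have g2 := hg 2
    simp only [Matrix.cons_val_zero, Matrix.cons_val_one, Matrix.cons_val] at g0 g1 g2
    rw [g0, g1, g2]; rfl
  have e2 : g * tri d e f * g⁻¹ = viaA (emb3 k) (tri ⟨0, by omega⟩ ⟨1, by omega⟩ ⟨2, by omega⟩) := by
    rw [tri_conj g h.2.2.2.1.1 h.2.2.2.2.1, viaA_tri _ (by simp) (by simp) (by simp)]
    have g3 : (g : Perm (Fin (k + 3))) d = p ⟨3, by omega⟩ := hg 3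
    have g4 : (g : Perm (Fin (k + 3))) e = p ⟨4, by omega⟩ := hg 4
    have g5 : (g : Perm (Fin (k + 3))) f = p ⟨5, by omega⟩ := hg 5
    rw [g3, g4, g5]; rfl
  have hte : IsTri (tri d e f) := isTri_tri (by omega) h.2.2.2.1.1 h.2.2.2.2.1 h.2.2.2.1.2
  have h1 := mem_mov_conj hk (isTri_tri (by omega) h.1.1 h.2.1.1 h.1.2.1) hl hv
  rw [e1] at h1
  have h2 := hC ⟨0, by omega⟩ ⟨1, by omega⟩ ⟨2, by omega⟩ (by simp) (by simp) (by simp) _ h1
  rw [← e2, ← T_conj hk hte hl, mul_apply', mul_apply', ← mul_apply' l⁻¹, inv_mul_cancel] at h2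
  have h3 := congrArg (act l⁻¹) h2
  rwa [← mul_apply' l⁻¹, ← mul_apply' l⁻¹, inv_mul_cancel] at h3

theorem exists_adjacent (hne : mov S (t0 k) ≠ ⊥) :
    ∃ v ≠ (0 : V), v ∈ mov S (tri (q9 hk 0) (q9 hk 1) (q9 hk 2)) ∧ v ∈ mov S (tri (q9 hk 0) (q9 hk 1) (q9 hk 3)) := by
  set p := q9 hk with hp
  have nd : ∀ {a b c d e f : Fin 9}, [a, b, c, d, e, f].Nodup →
      [p a, p b, p c, p d, p e, p f].Nodup := fun h => h.map p.injective
  have ne : ∀ {a b : Fin 9}, a ≠ b → p a ≠ p b := fun h => p.injective.ne h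
  obtain ⟨e, he, he0⟩ := Submodule.exists_mem_ne_zero_of_ne_bot hne
  have ht0 : t0 k = tri (p 0) (p 1) (p 2) := by
    rw [← t0_eq hk, viaA_tri _ (by decide) (by decide) (by decide)]
  rw [ht0] at he
  set R := tri (p 2) (p 3) (p 4) with hR
  have hRt : IsTri R := isTri_q9 hk (by decide) (by decide) (by decide)
  have ht : IsTri (tri (p 0) (p 1) (p 2)) := isTri_q9 hk (by decide) (by decide) (by decide)
  set e' := act (T S R) e with he'
  have he'm : e' ∈ mov S (tri (p 0) (p 1) (p 3)) := by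
    have h := mem_mov_conj hk ht (T_is hk hRt) he
    rwa [tri_conj R (ne (by decide)) (ne (by decide)), hR,
      tri_other (ne (by decide)) (ne (by decide)) (ne (by decide)),
      tri_other (ne (by decide)) (ne (by decide)) (ne (by decide)),
      tri_first (ne (by decide)) (ne (by decide)) (ne (by decide))] at h
  by_cases hD : e' = e
  · exact ⟨e, he0, he, hD ▸ he'm⟩
  -- otherwise the difference lies in two adjacent spaces
  set D := e' - e with hDdef
  have hDR : D ∈ mov S R := ⟨e, rfl⟩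
  have a1 : IsTri (tri (p 4) (p 5) (p 6)) := isTri_q9 hk (by decide) (by decide) (by decide)
  have a2 : IsTri (tri (p 5) (p 6) (p 7)) := isTri_q9 hk (by decide) (by decide) (by decide)
  set g := tri (p 4) (p 5) (p 6) * tri (p 5) (p 6) (p 7) with hg
  have hgl : S.Is (T S (tri (p 4) (p 5) (p 6)) * T S (tri (p 5) (p 6) (p 7))) g :=
    (T_is hk a1).mul (T_is hk a2)
  have hgv : (g : Perm (Fin (k + 3))) = swap (p 4) (p 5) * swap (p 6) (p 7) :=
    tri_mul_tri_apply (ne (by decide)) (ne (by decide)) (ne (by decide)) (ne (by decide)) (ne (by decide))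
      (ne (by decide))
  have hgD : act (T S (tri (p 4) (p 5) (p 6)) * T S (tri (p 5) (p 6) (p 7))) D = D := by
    rw [mul_apply', map_sub, map_sub, fix_of_disjoint hk hC (nd (by decide)) he'm,
      fix_of_disjoint hk hC (nd (by decide)) he'm, fix_of_disjoint hk hC (nd (by decide)) he,
      fix_of_disjoint hk hC (nd (by decide)) he]
  have hDR' : D ∈ mov S (tri (p 2) (p 3) (p 5)) := by
    have h := mem_mov_conj hk hRt hgl hDR
    rwa [hgD, hR, tri_conj g (ne (by decide)) (ne (by decide)), hgv,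
      show (swap (p 4) (p 5) * swap (p 6) (p 7)) (p 2) = p 2 by
        rw [Perm.mul_apply, swap_apply_of_ne_of_ne (ne (by decide)) (ne (by decide)),
          swap_apply_of_ne_of_ne (ne (by decide)) (ne (by decide))],
      show (swap (p 4) (p 5) * swap (p 6) (p 7)) (p 3) = p 3 by
        rw [Perm.mul_apply, swap_apply_of_ne_of_ne (ne (by decide)) (ne (by decide)),
          swap_apply_of_ne_of_ne (ne (by decide)) (ne (by decide))],
      show (swap (p 4) (p 5) * swap (p 6) (p 7)) (p 4) = p 5 by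
        rw [Perm.mul_apply, swap_apply_of_ne_of_ne (ne (by decide)) (ne (by decide)), swap_apply_left]] at h
  obtain ⟨g₂, hg₂⟩ := exists_map (n := k + 3) (j := 4) (by omega) (u := fun i => p (![2, 3, 4, 5] i))
    (v := fun i => p (![0, 1, 2, 3] i)) (p.injective.comp (by decide)) (p.injective.comp (by decide))
  obtain ⟨l, hl⟩ := S.exists_is g₂
  refine ⟨act l D, ?_, ?_, ?_⟩
  · intro h0
    apply hD
    have := congrArg (act l⁻¹) h0
    rw [map_zero, ← mul_apply', inv_mul_cancel] at this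
    exact sub_eq_zero.1 this
  · have h := mem_mov_conj hk hRt hl hDR
    rwa [hR, tri_conj g₂ (ne (by decide)) (ne (by decide)), show (g₂ : Perm (Fin (k + 3))) (p 2) = p 0 from hg₂ 0,
      show (g₂ : Perm (Fin (k + 3))) (p 3) = p 1 from hg₂ 1,
      show (g₂ : Perm (Fin (k + 3))) (p 4) = p 2 from hg₂ 2] at h
  · have h := mem_mov_conj hk (isTri_q9 hk (by decide) (by decide) (by decide)) hl hDR'
    rwa [tri_conj g₂ (ne (by decide)) (ne (by decide)), show (g₂ : Perm (Fin (k + 3))) (p 2) = p 0 from hg₂ 0,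
      show (g₂ : Perm (Fin (k + 3))) (p 3) = p 1 from hg₂ 1,
      show (g₂ : Perm (Fin (k + 3))) (p 5) = p 3 from hg₂ 3] at h

/-- A vector of the pair `(0, 1)`: properties. -/
theorem pair_vector {e : V} (he2 : e ∈ mov S (tri (q9 hk 0) (q9 hk 1) (q9 hk 2)))
    (he3 : e ∈ mov S (tri (q9 hk 0) (q9 hk 1) (q9 hk 3))) :
    (∀ j, j ≠ q9 hk 0 → j ≠ q9 hk 1 → e ∈ mov S (tri (q9 hk 0) (q9 hk 1) j)) ∧
      ∀ a b c, a ≠ b → b ≠ c → a ≠ c → a ≠ q9 hk 0 → a ≠ q9 hk 1 → b ≠ q9 hk 0 → b ≠ q9 hk 1 →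
        c ≠ q9 hk 0 → c ≠ q9 hk 1 → act (T S (tri a b c)) e = e := by
  set p := q9 hk with hp
  have ne : ∀ {a b : Fin 9}, a ≠ b → p a ≠ p b := fun h => p.injective.ne h
  have h01 : p 0 ≠ p 1 := ne (by decide)
  have hall : ∀ j, j ≠ p 0 → j ≠ p 1 → e ∈ mov S (tri (p 0) (p 1) j) := by
    intro j h0 h1
    by_cases h2 : j = p 2
    · rw [h2]; exact he2
    by_cases h3 : j = p 3
    · rw [h3]; exact he3
    obtain ⟨x, hx0, hx1, hx2, hx3, hxj⟩ := exists_point (n := k + 3) (by omega) (p 0) (p 1) (p 2) (p 3) j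
    have hfix : act (T S (tri (p 2) j x)) e = e :=
      fix_of_disjoint hk hC (a := p 0) (b := p 1) (c := p 3) (by
        simp [h01, ne (show (0 : Fin 9) ≠ 3 by decide), ne (show (1 : Fin 9) ≠ 3 by decide),
          ne (show (0 : Fin 9) ≠ 2 by decide), ne (show (1 : Fin 9) ≠ 2 by decide),
          ne (show (3 : Fin 9) ≠ 2 by decide), Ne.symm h0, Ne.symm h1, Ne.symm h2, Ne.symm h3,
          hx0.symm, hx1.symm, hx2.symm, hx3.symm, hxj.symm]) he3
    have ht2 : IsTri (tri (p 2) j x) := isTri_tri (by omega) (Ne.symm h2) hxj.symm hx2.symm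
    have h := mem_mov_conj hk (isTri_q9 hk (by decide) (by decide) (by decide)) (T_is hk ht2) he2
    rwa [hfix, tri_conj _ h01 (ne (by decide)), tri_other (ne (by decide)) (Ne.symm h0) hx0.symm,
      tri_other (ne (by decide)) (Ne.symm h1) hx1.symm, tri_first (Ne.symm h2) hxj.symm hx2.symm] at h
  refine ⟨hall, fun a b c hab hbc hac a0 a1 b0 b1 c0 c1 => ?_⟩
  obtain ⟨y, hy0, hy1, hya, hyb, hyc⟩ := exists_point (n := k + 3) (by omega) (p 0) (p 1) a b c
  exact fix_of_disjoint hk hC (a := p 0) (b := p 1) (c := y) (by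
    simp [h01, hab, hbc, hac, a0.symm, a1.symm, b0.symm, b1.symm, c0.symm, c1.symm, hy0.symm, hy1.symm,
      hya, hyb, hyc]) (hall y hy0 hy1)

set_option maxHeartbeats 1000000 in
/-- The main bound in this case. -/
theorem bound_of_trivial3 {p : ℕ} [Fact p.Prime] [CharP K p]
    (hne : mov S (t0 k) ≠ ⊥) : (k + 3) - 1 - (if p ∣ k + 3 then 1 else 0) ≤ Module.finrank K V := by
  classical
  set P := q9 hk with hP
  have ne : ∀ {a b : Fin 9}, a ≠ b → P a ≠ P b := fun h => P.injective.ne h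
  set o0 := P 0 with ho0
  set o1 := P 1 with ho1
  have h01 : o0 ≠ o1 := ne (by decide)
  set X : Fin (k + 3) → Alt (k + 3) := fun j => tri o0 o1 j with hX
  have hXt : ∀ j, j ≠ o0 → j ≠ o1 → IsTri (X j) := fun j h0 h1 => isTri_tri (by omega) h01 h1.symm h0.symm
  obtain ⟨ε, -, hε⟩ := exists_eps (S := S) hk
  rw [← hP] at hε
  -- the sign is trivial
  have hε1 : ε = 1 := by
    obtain ⟨v, hv, hv0⟩ := Submodule.exists_mem_ne_zero_of_ne_bot hne
    have hv' : v ∈ mov S (t0 k) := hv
    obtain ⟨g, hg⟩ := exists_map (n := k + 3) (j := 4) (by omega) (u := fun i => P (![0, 1, 2, 3] i))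
      (v := fun i => P (![3, 4, 5, 6] i)) (P.injective.comp (by decide)) (P.injective.comp (by decide))
    obtain ⟨l, hl⟩ := S.exists_is g
    have e1 := congrArg (fun u => l * u * l⁻¹) (hε (P 2) (P 3) (ne (by decide)) (ne (by decide)) (ne (by decide))
      (ne (by decide)) (ne (by decide)))
    have c2 : l * T S (tri (P 0) (P 1) (P 2)) * l⁻¹ = T S (tri (P 3) (P 4) (P 5)) := by
      rw [T_conj hk (isTri_tri (by omega) (ne (show (0 : Fin 9) ≠ 1 by decide)) (ne (show (1 : Fin 9) ≠ 2 by decide))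
        (ne (show (0 : Fin 9) ≠ 2 by decide))) hl, tri_conj g (ne (show (0 : Fin 9) ≠ 1 by decide))
        (ne (show (1 : Fin 9) ≠ 2 by decide)),
        show (g : Perm (Fin (k + 3))) (P 0) = P 3 from hg 0, show (g : Perm (Fin (k + 3))) (P 1) = P 4 from hg 1,
        show (g : Perm (Fin (k + 3))) (P 2) = P 5 from hg 2]
    have c3 : l * T S (tri (P 0) (P 1) (P 3)) * l⁻¹ = T S (tri (P 3) (P 4) (P 6)) := by
      rw [T_conj hk (isTri_tri (by omega) (ne (show (0 : Fin 9) ≠ 1 by decide)) (ne (show (1 : Fin 9) ≠ 3 by decide))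
        (ne (show (0 : Fin 9) ≠ 3 by decide))) hl, tri_conj g (ne (show (0 : Fin 9) ≠ 1 by decide))
        (ne (show (1 : Fin 9) ≠ 3 by decide)),
        show (g : Perm (Fin (k + 3))) (P 0) = P 3 from hg 0, show (g : Perm (Fin (k + 3))) (P 1) = P 4 from hg 1,
        show (g : Perm (Fin (k + 3))) (P 3) = P 6 from hg 3]
    simp only [← conj_pow, show l * (T S (tri (P 0) (P 1) (P 2)) * T S (tri (P 0) (P 1) (P 3))) * l⁻¹ =
      (l * T S (tri (P 0) (P 1) (P 2)) * l⁻¹) * (l * T S (tri (P 0) (P 1) (P 3)) * l⁻¹) by group,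
      c2, c3, ← (sc_comm ε l).eq, mul_inv_cancel_right] at e1
    have ht0 : t0 k = tri (P 0) (P 1) (P 2) := by
      rw [← t0_eq hk, viaA_tri _ (by decide) (by decide) (by decide)]
    rw [ht0] at hv'
    have f1 := fix_of_disjoint hk hC ((show [(0 : Fin 9), 1, 2, 3, 4, 5].Nodup by decide).map P.injective) hv'
    have f2 := fix_of_disjoint hk hC ((show [(0 : Fin 9), 1, 2, 3, 4, 6].Nodup by decide).map P.injective) hv'
    have e2 := congrArg (fun u => act u v) e1
    rw [pow_two] at e2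
    simp only [mul_apply', f1, f2] at e2
    have e3 : (ε : K) • v = (1 : K) • v := by rw [one_smul]; exact (e2.symm : act (sc K V ε) v = v)
    exact Units.ext (smul_left_injective K hv0 e3)
  subst hε1
  have hrel : ∀ i j, i ≠ j → i ≠ o0 → i ≠ o1 → j ≠ o0 → j ≠ o1 →
      T S (X i) * T S (X j) * T S (X i) = (T S (X j))⁻¹ := fun i j hij i0 i1 j0 j1 => by
    refine eq_inv_of_mul_eq_one_left ?_
    have h := hε i j hij i0 i1 j0 j1
    rwa [map_one (sc K V), pow_two, ← mul_assoc] at h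
  have hsq : ∀ i, i ≠ o0 → i ≠ o1 → (T S (X i))⁻¹ = T S (X i) * T S (X i) := fun i i0 i1 => by
    refine inv_eq_of_mul_eq_one_right ?_
    rw [← pow_two, ← pow_succ', T_pow_three hk (hXt i i0 i1)]
  -- the swap of the pair
  let Y : Fin (k + 3) → Fin (k + 3) → (Module.End K V)ˣ := fun i j => T S (X j) * (T S (X i))⁻¹ * T S (X j)
  have hYY : ∀ i j, i ≠ j → i ≠ o0 → i ≠ o1 → j ≠ o0 → j ≠ o1 → Y i j * Y i j = 1 := by
    intro i j hij i0 i1 j0 j1
    have e : (T S (X i))⁻¹ = T S (X j) * T S (X i) * T S (X j) := (hrel j i hij.symm j0 j1 i0 i1).symm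
    have hb : Y i j = T S (X j) * T S (X j) * T S (X i) * (T S (X j) * T S (X j)) := by
      simp only [Y, e, mul_assoc]
    have h3 : T S (X j) * (T S (X j) * T S (X j)) = 1 := by rw [← hsq j j0 j1, mul_inv_cancel]
    calc Y i j * Y i j = T S (X j) * T S (X j) * T S (X i) *
          (T S (X j) * (T S (X j) * (T S (X j) * T S (X j)))) * T S (X i) * (T S (X j) * T S (X j)) := by
          rw [hb]; simp only [mul_assoc]
      _ = (T S (X j))⁻¹ * (T S (X i) * T S (X j) * T S (X i)) * (T S (X j))⁻¹ := by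
          rw [h3, mul_one, hsq j j0 j1]; simp only [mul_assoc]
      _ = 1 := by
          rw [hrel i j hij i0 i1 j0 j1, hsq j j0 j1]
          simp only [mul_assoc]
          rw [h3, mul_one, h3]
  obtain ⟨e₀, he₀, h2₀, h3₀⟩ := exists_adjacent hk hC hne
  have hLY : ∀ v, v ∈ mov S (X (P 2)) → v ∈ mov S (X (P 3)) →
      act (Y (P 2) (P 3)) v ∈ mov S (X (P 2)) ∧ act (Y (P 2) (P 3)) v ∈ mov S (X (P 3)) := by
    intro v hv2 hv3
    have t2 := hXt (P 2) (ne (by decide)) (ne (by decide))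
    have t3 := hXt (P 3) (ne (by decide)) (ne (by decide))
    have hY : S.Is (Y (P 2) (P 3)) (X (P 3) * (X (P 2))⁻¹ * X (P 3)) :=
      ((T_is hk t3).mul (T_is hk t2).inv).mul (T_is hk t3)
    have hX9 : ∀ j : Fin 9, j ≠ 0 → j ≠ 1 → X (P j) = viaA P (tri 0 1 j) := fun j j0 j1 => by
      rw [viaA_tri P (by decide) j1.symm j0.symm]
    have k2 : (X (P 3) * (X (P 2))⁻¹ * X (P 3)) * X (P 2) * (X (P 3) * (X (P 2))⁻¹ * X (P 3))⁻¹ = (X (P 3))⁻¹ := by
      simp only [hX9 2 (by decide) (by decide), hX9 3 (by decide) (by decide), ← map_inv, ← map_mul,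
        pairSwap_conj.1]
    have k3 : (X (P 3) * (X (P 2))⁻¹ * X (P 3)) * X (P 3) * (X (P 3) * (X (P 2))⁻¹ * X (P 3))⁻¹ = (X (P 2))⁻¹ := by
      simp only [hX9 2 (by decide) (by decide), hX9 3 (by decide) (by decide), ← map_inv, ← map_mul,
        pairSwap_conj.2]
    have a := mem_mov_conj hk t3 hY hv3
    have b := mem_mov_conj hk t2 hY hv2
    rw [k3, mov_inv hk t2] at a
    rw [k2, mov_inv hk t3] at b
    exact ⟨a, b⟩
  -- facts about any vector of the pair that is an eigenvector of the swap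
  have facts : ∀ e : V, e ∈ mov S (X (P 2)) → e ∈ mov S (X (P 3)) → ∀ c : K, act (Y (P 2) (P 3)) e = c • e →
      (∀ i, i ≠ o0 → i ≠ o1 → e + act (T S (X i)) e + act (T S (X i)) (act (T S (X i)) e) = 0) ∧
      ∀ i j, i ≠ j → i ≠ o0 → i ≠ o1 → j ≠ o0 → j ≠ o1 →
        act (T S (X i)) (act (T S (X j)) e) = -act (T S (X i)) e - c • act (T S (X j)) e := by
    intro e he2 he3 c hc
    obtain ⟨hall, hfix⟩ := pair_vector hk hC he2 he3
    have hK : ∀ i, i ≠ o0 → i ≠ o1 → e + act (T S (X i)) e + act (T S (X i)) (act (T S (X i)) e) = 0 := by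
      intro i i0 i1
      obtain ⟨w, rfl⟩ := hall i i0 i1
      have h3 : act (T S (X i)) (act (T S (X i)) (act (T S (X i)) w)) = w := by
        have := congrArg (fun f : (Module.End K V)ˣ => act f w) (T_pow_three hk (hXt i i0 i1) (S := S))
        simpa [act, pow_succ] using this
      show (act (T S (X i)) w - w) + act (T S (X i)) (act (T S (X i)) w - w) +
        act (T S (X i)) (act (T S (X i)) (act (T S (X i)) w - w)) = 0
      simp only [map_sub, h3]
      abel
    -- the swap of any pair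
    have hmove : ∀ o a b : Fin (k + 3), o ≠ o0 → o ≠ o1 → a ≠ o0 → a ≠ o1 → b ≠ o0 → b ≠ o1 → a ≠ o → b ≠ o →
        ∃ g l, S.Is l g ∧ act l e = e ∧ (g : Perm (Fin (k + 3))) o0 = o0 ∧ (g : Perm (Fin (k + 3))) o1 = o1 ∧
          (g : Perm (Fin (k + 3))) o = o ∧ (g : Perm (Fin (k + 3))) a = b := by
      intro o a b o0' o1' a0 a1 b0 b1 ao bo
      by_cases hab : a = b
      · exact ⟨1, 1, by simpa using S.is_sc 1, rfl, rfl, rfl, rfl, hab⟩
      obtain ⟨x, hx0, hx1, hxo, hxa, hxb⟩ := exists_point (n := k + 3) (by omega) o0 o1 o a b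
      exact ⟨tri a b x, T S (tri a b x), T_is hk (isTri_tri (by omega) hab hxb.symm hxa.symm),
        hfix a b x hab hxb.symm hxa.symm a0 a1 b0 b1 hx0 hx1, tri_other a0.symm b0.symm hx0.symm,
        tri_other a1.symm b1.symm hx1.symm, tri_other ao.symm bo.symm hxo.symm, tri_first hab hxb.symm hxa.symm⟩
    have hY : ∀ i j, i ≠ j → i ≠ o0 → i ≠ o1 → j ≠ o0 → j ≠ o1 → act (Y i j) e = c • e := by
      intro i j hij i0 i1 j0 j1
      obtain ⟨z, hz0, hz1, hz2, hzi, hz3⟩ := exists_point (n := k + 3) (by omega) o0 o1 (P 2) i (P 3)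
      -- move the first entry, then the second
      obtain ⟨g₁, l₁, hl₁, he₁, g10, g11, -, g12⟩ := hmove z (P 2) i hz0 hz1 (ne (by decide)) (ne (by decide))
        i0 i1 hz2.symm hzi.symm
      set j' := (g₁ : Perm (Fin (k + 3))) (P 3) with hj'
      have j'0 : j' ≠ o0 := fun h => ne (show (3 : Fin 9) ≠ 0 by decide) ((g₁ : Perm (Fin (k + 3))).injective (h.trans g10.symm))
      have j'1 : j' ≠ o1 := fun h => ne (show (3 : Fin 9) ≠ 1 by decide) ((g₁ : Perm (Fin (k + 3))).injective (h.trans g11.symm))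
      have j'i : j' ≠ i := fun h => ne (show (3 : Fin 9) ≠ 2 by decide) ((g₁ : Perm (Fin (k + 3))).injective (h.trans g12.symm))
      obtain ⟨g₂, l₂, hl₂, he₂, g20, g21, g2i, g22⟩ := hmove i j' j i0 i1 j'0 j'1 j0 j1 j'i hij.symm
      have hg : ∀ q : Fin (k + 3), q ≠ o1 → g₂ * g₁ * X q * (g₂ * g₁)⁻¹ =
          X ((g₂ : Perm (Fin (k + 3))) ((g₁ : Perm (Fin (k + 3))) q)) := fun q hq => by
        show g₂ * g₁ * tri o0 o1 q * (g₂ * g₁)⁻¹ = _
        rw [tri_conj _ h01 hq.symm]
        show tri ((g₂ : Perm (Fin (k + 3))) ((g₁ : Perm (Fin (k + 3))) o0))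
          ((g₂ : Perm (Fin (k + 3))) ((g₁ : Perm (Fin (k + 3))) o1)) _ = _
        rw [g10, g11, g20, g21]
        rfl
      have t2 := T_conj hk (hXt (P 2) (ne (by decide)) (ne (by decide))) (hl₂.mul hl₁)
      have t3 := T_conj hk (hXt (P 3) (ne (by decide)) (ne (by decide))) (hl₂.mul hl₁)
      rw [hg _ (ne (by decide)), g12, g2i] at t2
      rw [hg _ (ne (by decide)), ← hj', g22] at t3
      have hconj : Y i j = l₂ * l₁ * Y (P 2) (P 3) * (l₂ * l₁)⁻¹ := by
        simp only [Y, ← t2, ← t3]; group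
      have hinv : act (l₂ * l₁)⁻¹ e = e := by
        have : act (l₂ * l₁) e = e := by rw [mul_apply', he₁, he₂]
        conv_lhs => rw [← this, ← mul_apply', inv_mul_cancel]
        rfl
      rw [hconj, mul_apply', mul_apply', hinv, hc, map_smul, mul_apply', he₁, he₂]
    refine ⟨hK, fun i j hij i0 i1 j0 j1 => ?_⟩
    have e1 := congrArg (act (T S (X i))) (hK j j0 j1)
    rw [map_add, map_add, map_zero] at e1
    have e2 : T S (X i) * T S (X j) * T S (X j) = T S (X j) * Y i j := by
      calc T S (X i) * T S (X j) * T S (X j)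
          = T S (X i) * T S (X j) * T S (X i) * ((T S (X i))⁻¹ * T S (X j)) := by group
        _ = T S (X j) * Y i j := by
            rw [hrel i j hij i0 i1 j0 j1, hsq j j0 j1]
            simp only [Y, mul_assoc]
    have e3 : act (T S (X i)) (act (T S (X j)) (act (T S (X j)) e)) = c • act (T S (X j)) e := by
      rw [← mul_apply', ← mul_apply', e2, mul_apply', hY i j hij i0 i1 j0 j1, map_smul]
    rw [e3] at e1
    rw [sub_eq_add_neg, ← neg_add, eq_neg_iff_add_eq_zero, ← e1]
    abel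
  -- a symmetric vector is impossible away from characteristic 2
  have hsymm : ∀ e : V, e ≠ 0 → e ∈ mov S (X (P 2)) → e ∈ mov S (X (P 3)) →
      act (Y (P 2) (P 3)) e = e → (2 : K) = 0 := by
    intro e he0 he2 he3 hc
    by_contra h2
    obtain ⟨hK, hform⟩ := facts e he2 he3 1 (by rw [one_smul, hc])
    obtain ⟨hall, hfix⟩ := pair_vector hk hC he2 he3
    set f : Fin (k + 3) → V := fun i => act (T S (X i)) e with hf
    have hsum : ∀ i j l, i ≠ j → i ≠ l → j ≠ l → i ≠ o0 → i ≠ o1 → j ≠ o0 → j ≠ o1 → l ≠ o0 → l ≠ o1 →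
        f i + f j + f l = 0 := by
      intro i j l hij hil hjl i0 i1 j0 j1 l0 l1
      have ti := hXt i i0 i1
      have tj := hXt j j0 j1
      set m := T S (X i) * T S (X j) with hm
      have hmv : act m e = -f i - f j := by rw [mul_apply', hform i j hij i0 i1 j0 j1, one_smul]
      set g := X i * X j with hg
      have gi : (g : Perm (Fin (k + 3))) o0 = i := by
        show (tri o0 o1 i : Perm (Fin (k + 3))) ((tri o0 o1 j : Perm (Fin (k + 3))) o0) = i
        rw [tri_first h01 j1.symm j0.symm, tri_second h01 i1.symm i0.symm]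
      have gj : (g : Perm (Fin (k + 3))) o1 = j := by
        show (tri o0 o1 i : Perm (Fin (k + 3))) ((tri o0 o1 j : Perm (Fin (k + 3))) o1) = j
        rw [tri_second h01 j1.symm j0.symm, tri_other j0 j1 hij.symm]
      -- the conjugate of `X l` avoids the pair
      have hgi : ∀ q, q ≠ i → q ≠ j → (↑g⁻¹ : Perm (Fin (k + 3))) q ≠ o0 ∧ (↑g⁻¹ : Perm (Fin (k + 3))) q ≠ o1 :=
        fun q qi qj => by
          constructor <;> intro h
          · apply qi; rw [← gi, ← h]; simp
          · apply qj; rw [← gj, ← h]; simp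
      obtain ⟨a0, a1⟩ := hgi o0 i0.symm j0.symm
      obtain ⟨b0, b1⟩ := hgi o1 i1.symm j1.symm
      obtain ⟨c0, c1⟩ := hgi l hil.symm hjl.symm
      have hl : m⁻¹ * T S (X l) * m⁻¹⁻¹ = T S (tri ((↑g⁻¹ : Perm (Fin (k + 3))) o0)
          ((↑g⁻¹ : Perm (Fin (k + 3))) o1) ((↑g⁻¹ : Perm (Fin (k + 3))) l)) := by
        rw [T_conj hk (hXt l l0 l1) ((T_is hk ti).mul (T_is hk tj)).inv, tri_conj _ h01 l1.symm]
      have hfl : act (T S (X l)) (act m e) = act m e := by
        have hx : ∀ q q' : Fin (k + 3), q ≠ q' → (↑g⁻¹ : Perm (Fin (k + 3))) q ≠ (↑g⁻¹ : Perm (Fin (k + 3))) q' :=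
          fun q q' h => (g⁻¹ : Alt (k + 3)).1.injective.ne h
        have := hfix _ _ _ (hx _ _ h01) (hx _ _ l1.symm) (hx _ _ l0.symm) a0 a1 b0 b1 c0 c1
        rw [← hl, inv_inv, mul_apply', mul_apply'] at this
        have h3 := congrArg (act m) this
        rwa [← mul_apply' m, mul_inv_cancel] at h3
      rw [hmv, map_sub, map_neg, hform l i hil.symm l0 l1 i0 i1, hform l j hjl.symm l0 l1 j0 j1, one_smul,
        one_smul] at hfl
      have e4 : (2 : K) • (f i + f j + f l) = 0 := by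
        rw [two_smul]
        have h5 := sub_eq_zero.2 hfl
        rw [← h5]
        simp only [hf]
        abel
      exact (smul_eq_zero.1 e4).resolve_left h2
    have hconst : ∀ i j, i ≠ o0 → i ≠ o1 → j ≠ o0 → j ≠ o1 → f i = f j := by
      intro i j i0 i1 j0 j1
      by_cases hij : i = j
      · rw [hij]
      obtain ⟨a, a0, a1, ai, aj, -⟩ := exists_point (n := k + 3) (by omega) o0 o1 i j j
      obtain ⟨b, b0, b1, bi, bj, ba⟩ := exists_point (n := k + 3) (by omega) o0 o1 i j a
      have e1 := hsum i a b ai.symm bi.symm ba.symm i0 i1 a0 a1 b0 b1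
      have e2 := hsum j a b aj.symm bj.symm ba.symm j0 j1 a0 a1 b0 b1
      exact add_right_cancel (add_right_cancel (e1.trans e2.symm))
    set i₀ := P 2
    have i00 : i₀ ≠ o0 := ne (by decide)
    have i01 : i₀ ≠ o1 := ne (by decide)
    have h3f : (3 : K) • f i₀ = 0 := by
      have := hsum (P 2) (P 3) (P 4) (ne (by decide)) (ne (by decide)) (ne (by decide)) (ne (by decide))
        (ne (by decide)) (ne (by decide)) (ne (by decide)) (ne (by decide)) (ne (by decide))
      rw [hconst (P 3) i₀ (ne (by decide)) (ne (by decide)) i00 i01,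
        hconst (P 4) i₀ (ne (by decide)) (ne (by decide)) i00 i01] at this
      rw [← this, show (3 : K) = 1 + 1 + 1 by norm_num, add_smul, add_smul, one_smul]
    have hfne : f i₀ ≠ 0 := fun h => he0 (by
      have := congrArg (act (T S (X i₀))⁻¹) h
      rwa [map_zero, ← mul_apply', inv_mul_cancel] at this)
    have hXf : ∀ j, j ≠ o0 → j ≠ o1 → act (T S (X j)) (f i₀) = f i₀ := by
      intro j j0 j1
      obtain ⟨i, i0, i1, hij, -, -⟩ := exists_point (n := k + 3) (by omega) o0 o1 j j j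
      show act (T S (X j)) (f i₀) = f i₀
      rw [hconst i₀ i i00 i01 i0 i1]
      show act (T S (X j)) (act (T S (X i)) e) = f i
      rw [hform j i hij.symm j0 j1 i0 i1, one_smul]
      show -f j - f i = f i
      rw [hconst j i j0 j1 i0 i1, hconst i i₀ i0 i1 i00 i01, ← sub_eq_zero]
      have : -f i₀ - f i₀ - f i₀ = -((3 : K) • f i₀) := by module
      rw [this, h3f, neg_zero]
    have hW : ∀ g l, S.Is l g → ∀ v ∈ Submodule.span K {f i₀}, act l v ∈ Submodule.span K {f i₀} := by
      refine fun g => induction_x h01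
        (p := fun g => ∀ l, S.Is l g → ∀ v ∈ Submodule.span K {f i₀}, act l v ∈ Submodule.span K {f i₀}) ?_ ?_ ?_ g
      · intro x y hx hy l hl v hv
        obtain ⟨a, ha⟩ := S.exists_is x
        have h1 := hy (a⁻¹ * l) (by simpa using ha.inv.mul hl) v hv
        have := hx a ha _ h1
        rwa [← mul_apply', mul_inv_cancel_left] at this
      · intro j j0 j1 l hl v hv
        obtain ⟨d, rfl⟩ := (T_is hk (hXt j j0 j1)).exists_sc hl
        obtain ⟨a, rfl⟩ := Submodule.mem_span_singleton.1 hv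
        rw [mul_apply', map_smul (act (T S (X j))), hXf j j0 j1]
        exact Submodule.smul_mem _ _ (Submodule.smul_mem _ _ (Submodule.mem_span_singleton_self _))
      · intro l hl v hv
        obtain ⟨d, rfl⟩ := hl.of_one
        exact Submodule.smul_mem _ _ hv
    rcases eq_bot_or_top hk (Submodule.span K {f i₀}) (fun t ht v hv => hW t _ (T_is hk ht) v hv) with h | h
    · exact hfne (Submodule.span_singleton_eq_bot.1 h)
    · apply hne
      have ht0 : X (P 2) = t0 k := by rw [← t0_eq hk, viaA_tri _ (by decide) (by decide) (by decide)]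
      refine LinearMap.range_eq_bot.2 (LinearMap.ext fun v => ?_)
      obtain ⟨a, rfl⟩ := Submodule.mem_span_singleton.1 (h ▸ Submodule.mem_top : v ∈ Submodule.span K {f i₀})
      show act (T S (t0 k)) (a • f i₀) - a • f i₀ = 0
      rw [← ht0, map_smul, hXf (P 2) i00 i01, sub_self]
  -- a vector negated by the swap
  obtain ⟨e, he0, he2, he3, hc⟩ : ∃ e : V, e ≠ 0 ∧ e ∈ mov S (X (P 2)) ∧ e ∈ mov S (X (P 3)) ∧
      act (Y (P 2) (P 3)) e = (-1 : K) • e := by
    by_cases h : e₀ + act (Y (P 2) (P 3)) e₀ = 0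
    · exact ⟨e₀, he₀, h2₀, h3₀, by rw [neg_smul, one_smul]; exact eq_neg_of_add_eq_zero_right h⟩
    · obtain ⟨y2, y3⟩ := hLY e₀ h2₀ h3₀
      have m2 := add_mem h2₀ y2
      have m3 := add_mem h3₀ y3
      have hf : act (Y (P 2) (P 3)) (e₀ + act (Y (P 2) (P 3)) e₀) = e₀ + act (Y (P 2) (P 3)) e₀ := by
        rw [map_add, ← mul_apply', hYY (P 2) (P 3) (ne (by decide)) (ne (by decide)) (ne (by decide))
          (ne (by decide)) (ne (by decide)), add_comm]
        rfl
      refine ⟨_, h, m2, m3, ?_⟩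
      rw [show (-1 : K) = 1 by linear_combination -(hsymm _ h m2 m3 hf), one_smul]
      exact hf
  obtain ⟨hK, hform⟩ := facts e he2 he3 (-1) hc
  -- the map from the permutation module
  let w : Fin (k + 3) → V := fun i => if i = o0 then e else if i = o1 then 0 else -act (T S (X i)) e
  let Φ : (Fin (k + 3) → K) →ₗ[K] V × K := Fintype.linearCombination K (fun i => (w i, (1 : K)))
  have hΦ : ∀ a, Φ a = (∑ i, a i • w i, ∑ i, a i) := fun a => by
    refine Prod.ext ?_ ?_
    · simp [Φ, Fintype.linearCombination_apply, Prod.fst_sum]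
    · simp [Φ, Fintype.linearCombination_apply, Prod.snd_sum]
  have hw : ∀ j, j ≠ o0 → j ≠ o1 → ∀ i, act (T S (X j)) (w i) =
      w ((X j : Perm (Fin (k + 3))) i) + act (T S (X j)) e := by
    intro j j0 j1 i
    by_cases i0 : i = o0
    · subst i0
      rw [show (X j : Perm (Fin (k + 3))) o0 = o1 from tri_first h01 j1.symm j0.symm]
      simp only [w, if_neg h01.symm]
      simp
    by_cases i1 : i = o1
    · subst i1
      rw [show (X j : Perm (Fin (k + 3))) o1 = j from tri_second h01 j1.symm j0.symm]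
      simp only [w, if_neg h01.symm, if_neg j0, if_neg j1]
      simp
    by_cases hij : i = j
    · subst hij
      rw [show (X i : Perm (Fin (k + 3))) i = o0 from tri_third h01 (Ne.symm i1)]
      simp only [w, if_neg i0, if_neg i1, map_neg]
      simp only [if_pos]
      exact neg_eq_iff_add_eq_zero.2 (by rw [← hK i j0 j1]; abel)
    rw [show (X j : Perm (Fin (k + 3))) i = i from tri_other i0 i1 hij]
    simp only [w, if_neg i0, if_neg i1, map_neg]
    rw [hform j i (Ne.symm hij) j0 j1 i0 i1]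
    module
  have hker : ∀ g : Alt (k + 3), ∀ a ∈ LinearMap.ker Φ,
      a ∘ ((g : Perm (Fin (k + 3))) : Fin (k + 3) → Fin (k + 3)) ∈ LinearMap.ker Φ := by
    have hperm : ∀ j, j ≠ o0 → j ≠ o1 → ∀ a ∈ LinearMap.ker Φ,
        a ∘ ((X j : Perm (Fin (k + 3))).symm : Fin (k + 3) → Fin (k + 3)) ∈ LinearMap.ker Φ := by
      intro j j0 j1 a ha
      rw [LinearMap.mem_ker, hΦ, Prod.mk_eq_zero] at ha ⊢
      refine ⟨?_, (Equiv.sum_comp (X j : Perm (Fin (k + 3))).symm a).trans ha.2⟩
      rw [← Equiv.sum_comp (X j : Perm (Fin (k + 3)))]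
      simp only [Function.comp_apply, Equiv.symm_apply_apply]
      calc ∑ i, a i • w ((X j : Perm (Fin (k + 3))) i)
          = ∑ i, (a i • act (T S (X j)) (w i) - a i • act (T S (X j)) e) := by
            refine Finset.sum_congr rfl fun i _ => ?_
            rw [hw j j0 j1 i, smul_add, add_sub_cancel_right]
        _ = 0 := by
            rw [Finset.sum_sub_distrib, ← Finset.sum_smul, ha.2, zero_smul, sub_zero]
            simp_rw [← map_smul]
            rw [← map_sum, ha.1, map_zero]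
    intro g
    have := induction_x h01 (p := fun g : Alt (k + 3) => ∀ a ∈ LinearMap.ker Φ,
      a ∘ ((g : Perm (Fin (k + 3))) : Fin (k + 3) → Fin (k + 3)) ∈ LinearMap.ker Φ) ?_ ?_ ?_ g
    · exact this
    · intro x y hx hy a ha
      exact hy _ (hx a ha)
    · intro j j0 j1 a ha
      have h2 := hperm j j0 j1 _ (hperm j j0 j1 a ha)
      convert h2 using 1
      funext i
      simp only [Function.comp_apply]
      congr 1
      have h3 := congrArg (fun g : Alt (k + 3) => (g : Perm (Fin (k + 3))) i)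
        (tri_mul_self h01 j1.symm j0.symm)
      rw [Equiv.eq_symm_apply, Equiv.eq_symm_apply]
      change (X j : Perm (Fin (k + 3))) ((X j : Perm (Fin (k + 3))) i) = (X j : Perm (Fin (k + 3))).symm i at h3
      rw [h3, Equiv.apply_symm_apply]
    · exact fun a ha => ha
  have hconst : ∀ a ∈ LinearMap.ker Φ, ∀ s t, a s = a t := by
    intro a ha s t
    by_contra hst
    have := single_sub_mem (by omega) (LinearMap.ker Φ) hker ha hst o0 o1 h01
    rw [LinearMap.mem_ker, map_sub] at this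
    simp [Φ, w, h01.symm, he0] at this
  have hrank := Φ.finrank_range_add_finrank_ker
  rw [Module.finrank_fin_fun] at hrank
  have hr2 : Module.finrank K (LinearMap.range Φ) ≤ Module.finrank K V + 1 := by
    refine (Submodule.finrank_le _).trans ?_
    rw [Module.finrank_prod, Module.finrank_self]
  have hk1 : Module.finrank K (LinearMap.ker Φ) ≤ if p ∣ k + 3 then 1 else 0 := by
    split_ifs with hp
    · refine le_trans (Submodule.finrank_mono (fun a ha => Submodule.mem_span_singleton.2 ⟨a o0, ?_⟩ :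
        LinearMap.ker Φ ≤ Submodule.span K {(fun _ => (1 : K) : Fin (k + 3) → K)})) ?_
      · funext i
        simp [hconst a ha i o0]
      · exact (finrank_span_le_card _).trans (by simp)
    · rw [Nat.le_zero, Submodule.finrank_eq_zero]
      refine (Submodule.eq_bot_iff _).2 fun a ha => funext fun i => ?_
      have h := (Prod.mk_eq_zero.1 ((hΦ a).symm.trans (LinearMap.mem_ker.1 ha))).2
      rw [Finset.sum_congr rfl (fun j _ => hconst a ha j i), Finset.sum_const, Finset.card_univ,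
        Fintype.card_fin, nsmul_eq_mul] at h
      exact (mul_eq_zero.1 h).resolve_left fun h' => hp ((CharP.cast_eq_zero_iff K p _).1 h')
  omega

end CfsgLib.AltDegree
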